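import Cfsg.Agent.OreGL.Large
import Cfsg.Agent.SLCommutator.Twist

/-!
# The factorisation over the field with five elements in even dimension
-/

set_option autoImplicit false
set_option linter.unusedSectionVars false
set_option linter.unusedSimpArgs false

namespace CfsgLib.OreGL

open Matrix Polynomial
open CfsgLib.LevCover (Sim Surj)
open CfsgLib.SourourProduct (IsLower IsUpper)

variable {K : Type*} [Field K]

/-- The quadratic used over five elements. -/
noncomputable def quadFive (K : Type*) [Field K] : K[X] := X ^ 2 + C (2 : K) * X + C 4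

theorem charpoly_two_five {A : Matrix (Fin 2) (Fin 2) K} (ht : A.trace = -2) (hd : A.det = 4) :
    A.charpoly = quadFive K := by
  rw [Matrix.charpoly_fin_two, ht, hd, quadFive, map_neg]
  ring

theorem quadFive_reverse : (quadFive K).reverse = C (4 : K) * X ^ 2 + C 2 * X + 1 := by
  have hd : (quadFive K).natDegree = 2 := by
    rw [quadFive]
    compute_degree!
  ext i
  rw [coeff_reverse, hd]
  match i with
  | 0 => rw [revAt_le (by omega)]; simp [quadFive, coeff_X, coeff_one, coeff_C]
  | 1 => rw [revAt_le (by omega)]; simp [quadFive, coeff_X, coeff_one, coeff_C]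
  | 2 => rw [revAt_le (by omega)]; simp [quadFive, coeff_X, coeff_one, coeff_C]
  | j + 3 =>
    rw [revAt_eq_self_of_lt (by omega)]
    simp [quadFive, coeff_X, coeff_one]

variable [Fintype K]

theorem zmod_five : ∀ a : ZMod 5, a = 0 ∨ a = 1 ∨ a = 2 ∨ a = 3 ∨ a = 4 := by decide

theorem eq_nat_cast (h5 : Fintype.card K = 5) (x : K) : x = 0 ∨ x = 1 ∨ x = 2 ∨ x = 3 ∨ x = 4 := by
  have hp : (5 : ℕ).Prime := by norm_num
  haveI : Fact (5 : ℕ).Prime := ⟨hp⟩
  haveI : CharP K 5 := by
    obtain ⟨p, hp'⟩ := CharP.exists K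
    haveI : Fact p.Prime := ⟨CharP.char_is_prime K p⟩
    obtain ⟨k, -, hk⟩ := FiniteField.card K p
    rw [h5] at hk
    have hdvd : p ∣ 5 := by rw [hk]; exact dvd_pow_self p (PNat.pos k).ne'
    obtain rfl := (Nat.prime_dvd_prime_iff_eq (CharP.char_is_prime K p) hp).1 hdvd
    exact hp'
  obtain ⟨a, rfl⟩ := ((Fintype.bijective_iff_injective_and_card (ZMod.castHom (dvd_refl 5) K)).2
    ⟨RingHom.injective _, by rw [ZMod.card, h5]⟩).2 x
  have : a = 0 ∨ a = 1 ∨ a = 2 ∨ a = 3 ∨ a = 4 := zmod_five a
  rcases this with rfl | rfl | rfl | rfl | rfl <;> simp only [map_zero, map_one, map_ofNat, true_or, or_true]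

theorem five_eq_zero (h5 : Fintype.card K = 5) : (5 : K) = 0 := by
  have h := FiniteField.cast_card_eq_zero K
  rw [h5] at h
  exact_mod_cast h

theorem two_ne_five (h5 : Fintype.card K = 5) : (2 : K) ≠ 0 := fun h => one_ne_zero (α := K) (by
  linear_combination five_eq_zero h5 - 2 * h)

theorem goodPoly_five (h5 : Fintype.card K = 5) (b : ℕ) : GoodPoly (quadFive K * (X - C (2 : K)) ^ b) := by
  have z := five_eq_zero h5
  have h2 := two_ne_five h5
  have z' : (5 : K[X]) = 0 := by rw [← map_ofNat C 5, z, map_zero]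
  refine ⟨?_, ?_, _, Or.inl rfl, ?_⟩
  · simp only [eval_mul, eval_pow, eval_sub, eval_X, eval_C, quadFive, eval_add]
    refine mul_ne_zero ?_ (pow_ne_zero _ ?_)
    · intro h; exact h2 (pow_eq_zero_iff (n := 2) (by norm_num) |>.1 (by linear_combination h))
    · rw [zero_sub]; exact neg_ne_zero.2 h2
  · simp only [eval_mul, eval_pow, eval_sub, eval_X, eval_C, quadFive, eval_add]
    refine mul_ne_zero ?_ (pow_ne_zero _ ?_)
    · intro h; exact h2 (by linear_combination h - z)
    · intro h; exact one_ne_zero (α := K) (by linear_combination -h)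
  · rw [reverse_mul_of_domain]
    have e1 : IsCoprime (quadFive K) (quadFive K).reverse := by
      refine ⟨4 * (X + 3), 4 * (X + 2), ?_⟩
      rw [quadFive_reverse, quadFive]
      simp only [map_ofNat]
      linear_combination (4 * X ^ 3 + 12 * X ^ 2 + 12 * X + 11) * z'
    have e2 : IsCoprime (X - C (2 : K)) (quadFive K).reverse := by
      refine coprime_linear ?_
      rw [quadFive_reverse]
      simp only [eval_add, eval_mul, eval_C, eval_pow, eval_X, eval_one]
      intro h
      exact one_ne_zero (α := K) (by linear_combination h - 4 * z)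
    have e3 : IsCoprime (quadFive K) (X - C (2 : K)).reverse := by
      refine ⟨4, -8 * X, ?_⟩
      rw [reverse_linear, quadFive]
      simp only [map_ofNat]
      linear_combination (4 * X ^ 2 + 3) * z'
    have e4 : IsCoprime (X - C (2 : K)) (X - C (2 : K)).reverse :=
      coprime_linear_reverse fun h => h2 (by linear_combination 4 * h - 2 * z)
    have hrev : ((X - C (2 : K)) ^ b).reverse = (X - C (2 : K)).reverse ^ b := by
      induction b with
      | zero => rw [pow_zero, pow_zero, ← C_1, reverse_C, C_1]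
      | succ b ih => rw [pow_succ, reverse_mul_of_domain, ih, pow_succ]
    rw [hrev]
    exact (e1.mul_right e3.pow_right).mul_left ((e2.mul_right e4.pow_right).pow_left)

theorem surj_five (h5 : Fintype.card K = 5) :
    ∃ R : Matrix (Fin 2) (Fin 2) K, R.charpoly = quadFive K ∧ Surj R := by
  have z := five_eq_zero h5
  refine ⟨!![0, -4; 1, -2], charpoly_two_five (by simp [trace_fin_two]) (by simp [det_fin_two]),
    fun d hd => ?_⟩
  obtain ⟨x, y, hxy⟩ : ∃ x y : K, x * (x - 2 * y) + 4 * (y * y) = d := by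
    rcases eq_nat_cast h5 d with h | h | h | h | h
    · exact absurd h hd
    · exact ⟨1, 0, by rw [h]; ring⟩
    · exact ⟨3, 1, by rw [h]; linear_combination z⟩
    · exact ⟨1, 1, by rw [h]; ring⟩
    · exact ⟨2, 0, by rw [h]; ring⟩
  refine ⟨!![x, -4 * y; y, x - 2 * y], by simp [det_fin_two]; linear_combination hxy, ?_⟩
  ext i j
  fin_cases i <;> fin_cases j <;> simp [Matrix.mul_apply, Fin.sum_univ_two] <;> ring

theorem quot_two_five (h5 : Fintype.card K = 5) {l u : K} (hl : l ≠ 0) (hu : u ≠ 0) :
    Quot (quadFive K) (!![1, 0; l, 1] * !![1, u; 0, 1]) := by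
  have z := five_eq_zero h5
  have h2 := two_ne_five h5
  obtain ⟨R0, hR0, hS0⟩ := surj_five h5
  obtain ⟨e, B, C', h1, h3⟩ : ∃ e B C' : K, B + C' = -(l * u) * e ∧ B * C' = l * u * ((3 - e) * e - 4) := by
    rcases eq_nat_cast h5 (l * u) with h | h | h | h | h <;> rw [h]
    · exact absurd h (mul_ne_zero hl hu)
    · exact ⟨0, 2, 3, by linear_combination z, by linear_combination 2 * z⟩
    · exact ⟨1, 4, 4, by linear_combination 2 * z, by linear_combination 4 * z⟩
    · exact ⟨2, 2, 2, by linear_combination 2 * z, by linear_combination 2 * z⟩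
    · exact ⟨0, 1, 4, by linear_combination z, by linear_combination 4 * z⟩
  set R : Matrix (Fin 2) (Fin 2) K := !![3 - e, B / l; C' / u, e] with hR
  have hfac : B / l * (C' / u) = (3 - e) * e - 4 := by
    field_simp
    linear_combination h3
  have hdet : R.det = 4 := by
    rw [hR]; simp [det_fin_two]; linear_combination -hfac
  have htr : R.trace = -2 := by rw [hR]; simp [trace_fin_two]; linear_combination z
  set M := !![1, 0; l, 1] * !![1, u; 0, 1] with hMdef
  have htr2 : (M * R).trace = -2 := by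
    rw [hMdef, hR]
    simp [trace_fin_two, Matrix.mul_apply, Fin.sum_univ_two]
    field_simp
    linear_combination h1 + z
  have hdet2 : (M * R).det = 4 := by rw [det_mul, hdet, hMdef, det_mul]; simp [det_fin_two]
  have hns : ∀ A : Matrix (Fin 2) (Fin 2) K, A.trace = -2 → A.det = 4 → ¬ SourourProduct.Scalar A := by
    rintro A ht hd ⟨s, rfl⟩
    simp [trace_fin_two] at ht
    rw [det_smul, det_one, mul_one, Fintype.card_fin] at hd
    refine one_ne_zero (α := K) ?_
    linear_combination 3 * ((2 * s - 2) * ht - 4 * hd) - 7 * z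
  have hc := fun A ht hd => LevCover.cyc_of_isCyc (SLCommutator.isCyc_two (hns A ht hd))
  have hcp := charpoly_two_five htr hdet
  have hR0n : R0.trace = -2 ∧ R0.det = 4 := by
    rw [Matrix.trace_eq_neg_charpoly_coeff, Matrix.det_eq_sign_charpoly_coeff, hR0, Fintype.card_fin]
    simp [quadFive]
  refine ⟨R, hcp, surj_sim (Equiv.refl _) (LevCover.sim_of_cyc (hc R0 hR0n.1 hR0n.2) (hc R htr hdet)
    (by rw [hR0, hcp])) hS0, LevCover.sim_of_cyc (hc R htr hdet) (hc _ htr2 hdet2) ?_⟩
  rw [hcp, charpoly_two_five htr2 hdet2]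

theorem factors_five (h5 : Fintype.card K = 5) {m : ℕ} (hm : 4 ≤ m) (heven : Even m)
    (M : Matrix (Fin m) (Fin m) K) (hdet : M.det = 1) (hM : M = 1 ∨ ∀ c : K, M ≠ c • 1) : Factors M := by
  classical
  have z := five_eq_zero h5
  have h2 := two_ne_five h5
  obtain ⟨b, rfl⟩ : ∃ b, m = 2 + (b + 2) := ⟨m - 4, by omega⟩
  set g : K[X] := (X - C (2 : K)) ^ (b + 2)
  have hgood := goodPoly_five h5 (b + 2)
  have hbe : Even b := by
    obtain ⟨j, hj⟩ := heven
    exact ⟨j - 2, by omega⟩
  have hsq : IsSquare ((-1) ^ Fintype.card (Fin (2 + (b + 2))) * (quadFive K * g).eval 0) := by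
    rw [Fintype.card_fin, heven.neg_one_pow, one_mul]
    simp only [g, quadFive, eval_mul, eval_pow, eval_sub, eval_X, eval_C, eval_add, zero_sub]
    refine IsSquare.mul ⟨2, by norm_num⟩ (Even.isSquare_pow ?_ _)
    simpa [Nat.even_add] using hbe
  have hco : IsCoprime (quadFive K) g := by
    refine IsCoprime.pow_right (coprime_linear ?_).symm
    simp only [quadFive, eval_add, eval_mul, eval_pow, eval_X, eval_C]
    intro h
    exact h2 (by linear_combination h - 2 * z)
  have hg : ∀ k, (X - C (2 : K)) ^ k = ∏ _i : Fin k, (X - C (2 : K)) := fun k => by simp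
  by_cases hsm : SourourProduct.Small (M - 1)
  · obtain ⟨R0, hR0, hS0⟩ := surj_five h5
    have hq := quot_small (a := 1) (b := b + 1) (n := 2 + (b + 2)) (by omega) hco hR0 hS0
      (R₂ := diagonal fun _ : Fin (b + 2) => (2 : K)) (by rw [charpoly_diagonal]; exact (hg _).symm) hdet hsm
    exact hq.factors h2 hgood hsq
  · have hns : ¬ SourourProduct.Scalar M := by
      rintro ⟨c, hc'⟩
      rcases hM with h | h
      · exact hsm ⟨0, 0, by rw [h, sub_self, zero_vecMulVec]⟩
      · exact h c hc'
    have hK : 4 ≤ Cardinal.mk K := by rw [Cardinal.mk_fintype, h5]; norm_num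
    have hsucc : 2 + (b + 2) = (b + 3) + 1 := by omega
    obtain ⟨S, S', L, U, hS, hS', hSM, hL, hU⟩ : ∃ S S' L U : Matrix (Fin (2 + (b + 2))) (Fin (2 + (b + 2))) K,
        S * S' = 1 ∧ S' * S = 1 ∧ S * M * S' = L * U ∧ IsLower L ∧ IsUpper U := by
      revert M
      rw [hsucc]
      intro M hdet hM hsm hns
      obtain ⟨S, S', L, U, hS, hS', hSM, hL, hU, -, -⟩ :=
        SourourProduct.exists_regular_factorisation hK (b + 3) M (Pi.single 0 1) (Pi.single 0 1) hdet
          (fun _ => ⟨hns, hsm⟩) (fun h => by simpa using congrFun h 0) (fun h => by simpa using congrFun h 0)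
      exact ⟨S, S', L, U, hS, hS', hSM, hL, hU⟩
    obtain ⟨L₁, U₁, L₂, U₂, Y, X', hL1, hU1, hL2, hU2, hsim⟩ := split_regular hL hU
    have hD1 : L₁ * U₁ = !![1, 0; L₁ 1 0, 1] * !![1, U₁ 0 1; 0, 1] := by
      have e1 : L₁ = !![1, 0; L₁ 1 0, 1] := by
        ext i j
        fin_cases i <;> fin_cases j
        · exact hL1.1 _
        · exact hL1.2.1 _ _ (by decide)
        · rfl
        · exact hL1.1 _
      have e2 : U₁ = !![1, U₁ 0 1; 0, 1] := by
        ext i j
        fin_cases i <;> fin_cases j
        · exact hU1.1 _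
        · rfl
        · exact hU1.2.1 _ _ (by decide)
        · exact hU1.1 _
      conv_lhs => rw [e1, e2]
    have q1 : Quot (quadFive K) (L₁ * U₁) := by
      rw [hD1]
      exact quot_two_five h5 (hL1.2.2 0 1 rfl) (hU1.2.2 0 1 rfl)
    have q2 : Pre g (L₂ * U₂) := by
      simp only [g, hg]
      exact pre_regular hL2 hU2 (fun _ => 2) (fun _ => h2) fun _ _ _ _ _ _ => rfl
    have hq := ((q1.join q2 hco Y X').of_sim finSumFinEquiv hsim).of_sim (Equiv.refl _)
      (Sim.symm ⟨S, S', hS, hS', hSM.symm⟩)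
    exact hq.factors h2 hgood hsq

end CfsgLib.OreGL
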