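import Cfsg.Agent.OreGL.Good

/-!
# Polynomials without pairs of inverse roots
-/

set_option autoImplicit false
set_option linter.unusedSectionVars false
set_option linter.unusedSimpArgs false

namespace CfsgLib.OreGL

open Polynomial

variable {K : Type*} [Field K]

theorem reverse_linear (a : K) : (X - C a).reverse = 1 - C a * X := by
  rw [sub_eq_add_neg X, ← C_neg, reverse_add_C, natDegree_X, pow_one]
  have : (X : K[X]).reverse = 1 := by
    rw [show (X : K[X]) = 1 * X by rw [one_mul], reverse_mul_X, ← C_1, reverse_C]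
  rw [this, C_neg]
  ring

theorem coprime_linear {b : K} {g : K[X]} (h : g.eval b ≠ 0) : IsCoprime (X - C b) g :=
  ((irreducible_X_sub_C b).coprime_iff_not_dvd).2 fun hd => h (dvd_iff_isRoot.1 hd)

theorem coprime_linear_reverse {a b : K} (h : a * b ≠ 1) : IsCoprime (X - C b) (X - C a).reverse := by
  refine coprime_linear ?_
  rw [reverse_linear, eval_sub, eval_one, eval_mul, eval_C, eval_X, sub_ne_zero]
  exact Ne.symm h

theorem coprime_prod_reverse {ι κ : Type*} [Fintype κ] (s : Finset ι) (a : ι → K) (b : κ → K)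
    (h : ∀ i ∈ s, ∀ j, a i * b j ≠ 1) : IsCoprime (∏ j, (X - C (b j))) (∏ i ∈ s, (X - C (a i))).reverse := by
  classical
  induction s using Finset.induction_on with
  | empty =>
    rw [Finset.prod_empty, ← C_1, reverse_C, C_1]
    exact isCoprime_one_right
  | insert i s hi ih =>
    rw [Finset.prod_insert hi, reverse_mul_of_domain]
    refine IsCoprime.mul_right (IsCoprime.prod_left fun j _ => ?_) (ih fun k hk => h k (Finset.mem_insert_of_mem hk))
    exact coprime_linear_reverse (h i (Finset.mem_insert_self i s) j)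

/-- A split polynomial with simple root minus one. -/
theorem goodPoly_split {n : ℕ} (d : Fin (n + 1) → K) (h0 : d 0 = -1) (hd : ∀ i, d i ≠ 0) (h2 : (2 : K) ≠ 0)
    (h1 : ∀ i : Fin n, d i.succ ≠ 1) (hm : ∀ i : Fin n, d i.succ ≠ -1)
    (hinv : ∀ i j : Fin n, d i.succ * d j.succ ≠ 1) : GoodPoly (∏ i, (X - C (d i))) := by
  refine ⟨?_, ?_, ∏ i : Fin n, (X - C (d i.succ)), Or.inr ⟨?_, ?_⟩, ?_⟩
  · rw [eval_prod]
    exact Finset.prod_ne_zero_iff.2 fun i _ => by simpa using hd i
  · rw [eval_prod]
    refine Finset.prod_ne_zero_iff.2 fun i _ => ?_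
    rw [eval_sub, eval_X, eval_C, sub_ne_zero]
    refine Fin.cases ?_ (fun i => Ne.symm (h1 i)) i
    rw [h0]
    exact fun h => h2 (by linear_combination h)
  · rw [Fin.prod_univ_succ, h0]; simp
  · rw [eval_prod]
    refine Finset.prod_ne_zero_iff.2 fun i _ => ?_
    rw [eval_sub, eval_X, eval_C, sub_ne_zero]
    exact Ne.symm (hm i)
  · refine coprime_prod_reverse Finset.univ _ d fun i _ j => ?_
    refine Fin.cases ?_ (fun j => hinv i j) j
    rw [h0, mul_neg_one]
    exact fun h => hm i (by linear_combination -h)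

end CfsgLib.OreGL
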