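import Cfsg.Agent.OreGL.Quot
import Cfsg.Agent.SLCommutator.Basic

/-!
# Triangular matrices that are quotients of conjugates of a companion matrix
-/

set_option autoImplicit false
set_option linter.unusedSectionVars false
set_option linter.unusedSimpArgs false

namespace CfsgLib.OreGL

open Matrix Polynomial
open CfsgLib.LevCover (Sim Cyc Hess)

variable {K : Type*} [Field K]

/-- The companion matrix has its polynomial. -/
theorem charpoly_comp_of_monic {n : ℕ} {p : K[X]} (hp : p.Monic) (hd : p.natDegree = n + 1) :
    (SLCommutator.comp p (n + 1)).charpoly = p ∧ Cyc (SLCommutator.comp p (n + 1)) := by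
  obtain ⟨G, hG, hH, -⟩ := LevCover.exists_hess n p hp hd
  obtain ⟨e, he⟩ := LevCover.isCyc_of_cyc (LevCover.cyc_hess hH)
  set Q := SLCommutator.krylov G e
  have u : IsUnit Q.det := isUnit_iff_ne_zero.2 he
  have h : Sim G (SLCommutator.comp p (n + 1)) := by
    refine ⟨Q⁻¹, Q, Matrix.nonsing_inv_mul Q u, Matrix.mul_nonsing_inv Q u, ?_⟩
    rw [← hG, Matrix.mul_assoc, SLCommutator.mul_krylov, ← Matrix.mul_assoc, Matrix.nonsing_inv_mul Q u, Matrix.one_mul]
  exact ⟨h.charpoly_eq.trans hG, h.cyc (LevCover.cyc_hess hH)⟩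

/-- A triangular matrix without zero just above the diagonal and with runs on it is cyclic. -/
theorem cyc_of_super {n : ℕ} {G : Matrix (Fin n) (Fin n) K} (hl : ∀ i j : Fin n, j < i → G i j = 0)
    (hs : ∀ i j : Fin n, j.val = i.val + 1 → G i j ≠ 0)
    (hrun : ∀ i j k : Fin n, i < j → j < k → G i i = G k k → G i i = G j j) : Cyc G :=
  LevCover.cyc_of_isCyc (SLCommutator.isCyc_upper hl (fun i j h _ => hs i j h) hrun)

theorem exists_tri {n : ℕ} {p : K[X]} (hC : (SLCommutator.comp p (n + 1)).charpoly = p) (hp0 : p.eval 0 ≠ 0)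
    (v u : ℕ → K)
    (hv : ∀ i, v i ≠ 0) (hprod : ∏ i ∈ Finset.range (n + 1), v i = 1) :
    ∃ Nm : Matrix (Fin (n + 1)) (Fin (n + 1)) K, Pre p Nm ∧ (∀ i j, j < i → Nm i j = 0) ∧ (∀ i, Nm i i = v i.val) ∧
      (∀ i j : Fin (n + 1), j.val = i.val + 1 → j.val < n → Nm i j = u i.val) ∧
      (∀ i j : Fin (n + 1), j.val = i.val + 1 → j.val = n →
        Nm i j = (v n - 1) * p.coeff n - ∑ l ∈ Finset.range (n - 1), u l) ∧
      (∀ a : ℕ, a ≤ n → (∀ l, l + 1 < a → u l = 0) → ∀ i j : Fin (n + 1), j.val < a → i ≠ j → Nm i j = 0) ∧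
      ((∀ l, u l = 0) → ∀ i : Fin (n + 1), i.val < n → Nm i (Fin.last n) * ∏ l ∈ Finset.range n, v l =
        (1 - ∏ l ∈ Finset.range (i.val + 1), v l) * p.coeff (i.val + 1)) := by
  classical
  set t : ℕ → K := fun i => ∏ l ∈ Finset.range i, v l with ht
  set τ : ℕ → K := fun i => ∑ l ∈ Finset.range i, u l with hτdef
  have ht0 : ∀ i, t i ≠ 0 := fun i => Finset.prod_ne_zero_iff.2 fun l _ => hv l
  have htz : t 0 = 1 := rfl
  have hts : ∀ i, t (i + 1) = t i * v i := fun i => Finset.prod_range_succ v i
  have hτs : ∀ i, τ (i + 1) = τ i + u i := fun i => Finset.sum_range_succ u i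
  have hτz : τ 0 = 0 := rfl
  have htn : t n * v n = 1 := by rw [← hts]; exact hprod
  set X₀ : Matrix (Fin (n + 1)) (Fin (n + 1)) K := Matrix.of fun i j =>
    if i = j then t i.val else if j.val = i.val + 1 then t i.val * τ i.val else 0 with hX
  set N₀ : Matrix (Fin (n + 1)) (Fin (n + 1)) K := Matrix.of fun i j =>
    if j.val < n then (if i = j then t (j.val + 1) else if j.val = i.val + 1 then t j.val * τ j.val else 0)
    else if i.val < n then
      (1 - t (i.val + 1)) * p.coeff (i.val + 1) -
        (if i.val + 2 ≤ n then t (i.val + 1) * τ (i.val + 1) * p.coeff (i.val + 2) else 0)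
    else 1 with hN
  set C := SLCommutator.comp p (n + 1) with hCdef
  have hCN : C * N₀ = X₀ * C := by
    ext i j
    have hCe : ∀ l : Fin (n + 1), C i l = if l.val = n then -p.coeff i.val else if i.val = l.val + 1 then 1 else 0 :=
      fun l => by simp [hCdef, SLCommutator.comp]
    rw [Matrix.mul_apply, Matrix.mul_apply]
    have hL : ∑ l, C i l * N₀ l j =
        (if h : i.val = 0 then 0 else N₀ ⟨i.val - 1, by omega⟩ j) - p.coeff i.val * N₀ (Fin.last n) j := by
      rw [Fin.sum_univ_castSucc, sub_eq_add_neg, neg_mul_eq_neg_mul]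
      congr 1
      · split_ifs with h
        · refine Finset.sum_eq_zero fun l _ => ?_
          rw [hCe, if_neg (by have := l.isLt; simp; omega), if_neg (by omega), zero_mul]
        · rw [Finset.sum_eq_single (⟨i.val - 1, by omega⟩ : Fin n)]
          · rw [hCe, if_neg (by simp; omega), if_pos (by simp; omega), one_mul]
            rfl
          · intro l _ hl
            rw [hCe, if_neg (by have := l.isLt; simp; omega), if_neg, zero_mul]
            intro hh
            exact hl (Fin.ext (by simp at hh ⊢; omega))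
          · exact fun h => absurd (Finset.mem_univ _) h
      · rw [hCe, if_pos (Fin.val_last n)]
    rw [hL]
    have hXrow : ∀ f : Fin (n + 1) → K, ∑ l, X₀ i l * f l = t i.val * f i +
        (if h : i.val + 1 < n + 1 then t i.val * τ i.val * f ⟨i.val + 1, h⟩ else 0) := by
      intro f
      split_ifs with h
      · rw [Finset.sum_eq_add i (⟨i.val + 1, h⟩ : Fin (n + 1)) (fun e => by have := congrArg Fin.val e; simp at this)]
        · simp [hX, Fin.ext_iff]
        · intro l _ hl
          have h1 : ¬ l.val = i.val + 1 := fun e => hl.2 (Fin.ext e)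
          simp [hX, Ne.symm hl.1, h1]
        · exact fun h => absurd (Finset.mem_univ _) h
        · exact fun h => absurd (Finset.mem_univ _) h
      · rw [Finset.sum_eq_single i, add_zero]
        · simp [hX]
        · intro l _ hl
          have h1 : ¬ l.val = i.val + 1 := fun e => h (e ▸ l.isLt)
          simp [hX, Ne.symm hl, h1]
        · exact fun h => absurd (Finset.mem_univ _) h
    rw [hXrow fun l => C l j]
    obtain ⟨i, hi⟩ := i
    obtain ⟨j, hj⟩ := j
    simp only [hN, Matrix.of_apply, Fin.val_last, hCdef, SLCommutator.comp, Fin.ext_iff]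
    rcases Nat.lt_or_ge j n with hjn | hjn
    · simp only [if_pos hjn, if_neg (show ¬ n = j by omega), if_neg (show ¬ j = n + 1 by omega), mul_zero, sub_zero,
        if_neg (show ¬ j + 1 = n + 1 by omega)]
      rcases Nat.eq_zero_or_pos i with hi0 | hi0
      · subst hi0
        rw [dif_pos rfl, if_neg (show ¬ (0 : ℕ) = j + 1 by omega), htz, hτz, mul_zero, zero_add]
        split_ifs <;> simp
      · rw [dif_neg (by omega)]
        by_cases hd : i = j + 1
        · subst hd
          rw [if_pos (show j + 1 - 1 = j by omega), if_pos rfl]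
          split_ifs with h1 h2 <;> first | omega | simp
        · rw [if_neg (show ¬ i - 1 = j by omega), if_neg hd, mul_zero, zero_add]
          by_cases hs : i = j
          · subst hs
            rw [if_pos (show i = i - 1 + 1 by omega)]
            split_ifs with h1 <;> first | omega | simp
          · rw [if_neg (show ¬ j = i - 1 + 1 by omega)]
            split_ifs with h1 h2 <;> first | omega | simp
    · obtain rfl : j = n := by omega
      simp only [if_neg (lt_irrefl _), if_true]
      rcases Nat.eq_zero_or_pos i with hi0 | hi0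
      · subst hi0
        rw [dif_pos rfl, htz, hτz, one_mul, zero_sub]
        split_ifs <;> simp
      · rw [dif_neg (by omega), if_pos (show i - 1 < j by omega), show i - 1 + 1 = i by omega,
          show i - 1 + 2 = i + 1 by omega]
        split_ifs with h1 h2 <;> first | omega | ring
  have hXl : ∀ i j : Fin (n + 1), j < i → X₀ i j = 0 := fun i j h => by
    have h' : j.val < i.val := h
    simp [hX, (ne_of_gt h), show ¬ j.val = i.val + 1 by omega]
  have hXd : X₀.det ≠ 0 := by
    rw [det_of_isUpperTriangular (show Matrix.BlockTriangular X₀ id from fun i j h => hXl i j h)]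
    exact Finset.prod_ne_zero_iff.2 fun i _ => by simp [hX, ht0]
  have uX : IsUnit X₀.det := isUnit_iff_ne_zero.2 hXd
  haveI : Invertible X₀ := Matrix.invertibleOfIsUnitDet X₀ uX
  have hN0l : ∀ i j : Fin (n + 1), j < i → N₀ i j = 0 := fun i j h => by
    have h' : j.val < i.val := h
    have := i.isLt
    simp [hN, show j.val < n by omega, (ne_of_gt h), show ¬ j.val = i.val + 1 by omega]
  set Nm := N₀ * X₀⁻¹ with hNm
  have hNl : ∀ i j : Fin (n + 1), j < i → Nm i j = 0 := fun i j h =>
    (Matrix.BlockTriangular.mul (fun i j h => hN0l i j h)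
      (blockTriangular_inv_of_blockTriangular (fun i j h => hXl i j h)) :
        Matrix.BlockTriangular (N₀ * X₀⁻¹) id) h
  have hNX : Nm * X₀ = N₀ := by rw [hNm, Matrix.mul_assoc, Matrix.nonsing_inv_mul X₀ uX, Matrix.mul_one]
  -- a column with a diagonal entry and one above it
  have hcol : ∀ (i j : Fin (n + 1)), N₀ i j = Nm i j * t j.val +
      (if h : 0 < j.val then Nm i ⟨j.val - 1, by omega⟩ * (t (j.val - 1) * τ (j.val - 1)) else 0) := by
    intro i j
    rw [← hNX, Matrix.mul_apply]
    split_ifs with h
    · rw [Finset.sum_eq_add j (⟨j.val - 1, by omega⟩ : Fin (n + 1)) (fun e => by have := congrArg Fin.val e; simp at this; omega)]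
      · simp only [hX, Matrix.of_apply, if_true, Fin.ext_iff, if_neg (show ¬ j.val - 1 = j.val by omega),
          if_pos (show j.val = j.val - 1 + 1 by omega)]
      · intro l _ hl
        have h1 : ¬ j.val = l.val + 1 := fun e => hl.2 (Fin.ext (by simp; omega))
        simp [hX, hl.1, h1]
      · exact fun h => absurd (Finset.mem_univ _) h
      · exact fun h => absurd (Finset.mem_univ _) h
    · rw [Finset.sum_eq_single j, add_zero]
      · simp [hX]
      · intro l _ hl
        simp [hX, hl, show ¬ j.val = l.val + 1 by omega]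
      · exact fun h => absurd (Finset.mem_univ _) h
  have hdiag : ∀ i, Nm i i = v i.val := by
    intro i
    have h := SLCommutator.upper_mul_diag (A := Nm) (B := X₀) hNl hXl i
    rw [hNX, show X₀ i i = t i.val by simp [hX]] at h
    refine mul_right_cancel₀ (ht0 i.val) (h.symm.trans ?_)
    simp only [hN, Matrix.of_apply]
    split_ifs with h1 h2
    · rw [hts, mul_comm]
    · rw [show i.val = n by have := i.isLt; omega, mul_comm, htn]
  refine ⟨Nm, ?_, hNl, hdiag, ?_, ?_, ?_, ?_⟩
  · have hCd : IsUnit C.det := by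
      refine isUnit_iff_ne_zero.2 fun h0 => hp0 ?_
      rw [← hC, Matrix.eval_charpoly]
      simp [Matrix.det_neg, h0]
    have hP : Pre p (C * Nm * C⁻¹) := by
      refine ⟨C, hC, X₀, X₀⁻¹, Matrix.mul_nonsing_inv X₀ uX, Matrix.nonsing_inv_mul X₀ uX, ?_⟩
      rw [Matrix.mul_assoc (C * Nm), Matrix.nonsing_inv_mul C hCd, Matrix.mul_one, hNm, ← Matrix.mul_assoc, hCN]
    refine hP.of_sim (Equiv.refl _) ⟨C⁻¹, C, Matrix.nonsing_inv_mul C hCd, Matrix.mul_nonsing_inv C hCd, ?_⟩
    simp only [Matrix.mul_assoc, Matrix.nonsing_inv_mul C hCd, Matrix.mul_one]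
    rw [Matrix.nonsing_inv_mul_cancel_left C Nm hCd]
  · intro i j hij hjn
    have h := hcol i j
    rw [dif_pos (by omega), show (⟨j.val - 1, by omega⟩ : Fin (n + 1)) = i from Fin.ext (by simp; omega), hdiag,
      show j.val - 1 = i.val by omega] at h
    have hne : i ≠ j := fun e => by rw [e] at hij; omega
    simp only [hN, Matrix.of_apply, if_pos hjn, if_neg hne, if_pos hij] at h
    rw [hij, hts, hτs] at h
    refine mul_right_cancel₀ (mul_ne_zero (ht0 i.val) (hv i.val)) ?_
    linear_combination -h
  · intro i j hij hjn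
    have h := hcol i j
    rw [dif_pos (by omega), show (⟨j.val - 1, by omega⟩ : Fin (n + 1)) = i from Fin.ext (by simp; omega), hdiag,
      show j.val - 1 = i.val by omega] at h
    simp only [hN, Matrix.of_apply, if_neg (show ¬ j.val < n by omega), if_pos (show i.val < n by omega),
      if_neg (show ¬ i.val + 2 ≤ n by omega)] at h
    rw [show i.val + 1 = n by omega, hjn] at h
    rw [show n - 1 = i.val by omega]
    rw [show ∑ l ∈ Finset.range i.val, u l = τ i.val from rfl]
    have e : t n = t i.val * v i.val := by rw [← hts]; congr 1; omega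
    refine mul_right_cancel₀ (ht0 n) ?_
    linear_combination -h + p.coeff n * htn.symm + τ i.val * e
  · intro a ha hu i j hja hne
    have hτ : ∀ l, l < a → τ l = 0 := fun l hl =>
      Finset.sum_eq_zero fun x hx => hu x (by rw [Finset.mem_range] at hx; omega)
    have h := hcol i j
    have hj : j.val < n := by omega
    simp only [hN, Matrix.of_apply, if_pos hj, if_neg hne, hτ j.val hja, mul_zero, ite_self] at h
    split_ifs at h with h0
    · rw [hτ _ (show j.val - 1 < a by omega), mul_zero, mul_zero, add_zero] at h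
      exact (mul_eq_zero.1 h.symm).resolve_right (ht0 _)
    · rw [add_zero] at h
      exact (mul_eq_zero.1 h.symm).resolve_right (ht0 _)
  · intro hu i hi
    have hτ : ∀ l, τ l = 0 := fun l => Finset.sum_eq_zero fun x _ => hu x
    have h := hcol i (Fin.last n)
    simp only [hN, Matrix.of_apply, Fin.val_last, if_neg (lt_irrefl n), if_pos hi, hτ, mul_zero, zero_mul,
      ite_self, sub_zero, dite_eq_ite, add_zero] at h
    exact h.symm

end CfsgLib.OreGL
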