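import Cfsg.Agent.OreGL.Good
import Cfsg.Agent.OreGL.Tri
import Cfsg.Agent.OreGL.Polys

/-!
# Certificates in dimension four over the field with three elements
-/

set_option autoImplicit false
set_option linter.unusedSectionVars false
set_option linter.unusedSimpArgs false

namespace CfsgLib.OreGL

open Matrix Polynomial
open CfsgLib.LevCover (Sim Surj)

abbrev M4 := Matrix (Fin 4) (Fin 4) (ZMod 3)

/-- A representative of the chosen class. -/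
def repFour : M4 := !![2,0,0,0; 0,0,0,2; 0,1,0,1; 0,0,1,0]

/-- The direct sum of a companion cubic and a scalar. -/
def cubicFour (c b : ZMod 3) : M4 := !![0,0,c,0; 1,0,c*b-1,0; 0,1,c-b,0; 0,0,0,c]

/-- Two equal companion quadratics. -/
def quadFour (b d : ZMod 3) : M4 := !![0,-d,0,0; 1,-b,0,0; 0,0,0,-d; 0,0,1,-b]

/-- Matrix, conjugator, inverse, similarity, inverse. -/
def certsFour : List (M4 × M4 × M4 × M4 × M4) := [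
  (!![0,0,1,0; 1,0,2,0; 0,1,1,0; 0,0,0,1], !![0,1,1,2; 1,2,0,1; 2,2,0,2; 0,2,1,1], !![2,1,0,1; 0,1,1,0; 2,0,0,2; 1,1,1,2], !![1,2,1,0; 2,1,0,1; 1,1,1,0; 1,1,2,0], !![2,0,0,2; 1,0,2,0; 0,0,2,1; 1,1,1,2]),
  (!![0,0,1,0; 1,0,0,0; 0,1,0,0; 0,0,0,1], !![0,0,1,0; 0,2,0,2; 1,2,1,0; 1,0,0,2], !![1,1,2,2; 2,1,1,2; 1,0,0,0; 1,1,2,1], !![1,2,0,0; 2,2,1,1; 0,1,0,0; 1,0,1,0], !![1,0,1,0; 0,0,1,0; 2,0,2,1; 2,1,0,2]),
  (!![0,0,1,0; 1,0,1,0; 0,1,2,0; 0,0,0,1], !![0,1,2,2; 0,0,2,1; 1,2,2,1; 1,2,2,0], !![1,1,0,1; 1,2,2,1; 0,2,1,2; 0,0,1,2], !![2,1,2,0; 1,0,2,0; 2,2,2,0; 0,0,0,1], !![2,2,2,0; 2,0,1,0; 2,1,2,0; 0,0,0,1]),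
  (!![0,0,2,0; 1,0,2,0; 0,1,2,0; 0,0,0,2], !![2,2,0,1; 1,1,2,0; 2,1,1,0; 0,0,1,1], !![1,0,1,2; 0,2,2,0; 1,1,0,2; 2,2,0,2], !![2,0,2,0; 0,2,2,0; 1,0,2,0; 0,2,2,1], !![1,0,2,0; 2,2,2,0; 1,0,1,0; 0,2,0,1]),
  (!![0,0,2,0; 1,0,1,0; 0,1,1,0; 0,0,0,2], !![2,0,0,1; 2,1,2,2; 1,2,0,1; 0,1,0,2], !![0,0,1,1; 1,0,1,2; 0,2,2,0; 1,0,1,1], !![0,0,1,0; 1,0,0,0; 0,2,0,0; 2,1,2,1], !![0,1,0,0; 0,0,2,0; 1,0,0,0; 1,1,1,1]),
  (!![0,0,2,0; 1,0,0,0; 0,1,0,0; 0,0,0,2], !![0,2,2,1; 0,1,2,1; 2,2,2,0; 1,2,0,2], !![1,1,1,2; 1,2,0,0; 1,0,1,1; 0,2,1,1], !![2,1,0,0; 0,1,1,0; 0,0,1,0; 0,1,1,1], !![2,1,2,0; 0,1,2,0; 0,0,1,0; 0,2,0,1]),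
  (!![0,2,0,0; 1,0,0,0; 0,0,0,2; 0,0,1,0], !![0,0,1,0; 2,1,0,0; 2,2,0,2; 0,1,1,1], !![1,0,2,2; 1,1,2,2; 1,0,0,0; 1,2,1,2], !![0,1,0,0; 2,2,2,0; 1,0,0,0; 0,1,2,1], !![0,0,1,0; 1,0,0,0; 2,2,2,0; 1,2,2,1]),
  (!![0,1,0,0; 1,0,0,0; 0,0,0,1; 0,0,1,0], !![2,1,0,2; 1,0,1,2; 1,0,2,2; 1,1,2,2], !![1,1,2,2; 0,0,2,1; 0,2,1,0; 1,2,0,2], !![1,0,1,0; 1,2,1,0; 1,2,0,0; 0,2,0,1], !![1,2,1,0; 1,2,0,0; 0,1,2,0; 1,2,0,1]),
  (!![0,2,0,0; 1,2,0,0; 0,0,0,2; 0,0,1,2], !![2,1,2,0; 2,1,0,0; 0,1,2,0; 1,0,2,1], !![2,0,1,0; 2,1,1,0; 2,1,0,0; 0,1,2,1], !![0,2,0,0; 1,2,0,0; 0,0,1,0; 0,0,0,1], !![2,1,0,0; 2,0,0,0; 0,0,1,0; 0,0,0,1]),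
  (!![0,1,0,0; 1,2,0,0; 0,0,0,1; 0,0,1,2], !![0,1,1,2; 1,2,1,0; 2,0,1,0; 1,0,1,1], !![2,2,0,2; 1,0,1,1; 2,2,1,2; 2,2,2,0], !![0,1,2,0; 1,2,0,0; 0,2,0,0; 1,1,1,1], !![0,1,2,0; 0,0,2,0; 2,0,2,0; 1,2,0,1]),
  (!![0,2,0,0; 1,1,0,0; 0,0,0,2; 0,0,1,1], !![1,1,1,1; 1,1,2,0; 1,2,1,2; 2,2,0,2], !![1,0,2,2; 0,1,1,2; 1,0,0,1; 2,2,0,1], !![2,2,1,0; 0,1,2,0; 0,2,2,1; 0,0,1,0], !![2,2,0,0; 0,1,0,1; 0,0,0,1; 0,1,1,2]),
  (!![0,1,0,0; 1,1,0,0; 0,0,0,1; 0,0,1,1], !![2,2,1,1; 0,2,2,2; 0,2,1,1; 1,1,1,2], !![2,0,1,0; 0,1,1,0; 2,0,0,2; 1,1,2,1], !![2,2,0,1; 0,1,0,0; 1,2,0,1; 0,0,1,2], !![1,0,2,0; 0,1,0,0; 2,1,2,1; 2,1,2,0])]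

def okCert (x : M4 × M4 × M4 × M4 × M4) : Prop :=
  x.2.1 * x.2.2.1 = 1 ∧ x.2.2.1 * x.2.1 = 1 ∧ x.2.2.2.1 * x.2.2.2.2 = 1 ∧ x.2.2.2.2 * x.2.2.2.1 = 1 ∧
    x.2.2.2.1 * (x.2.1 * repFour * x.2.2.1) * x.2.2.2.2 = x.1 * (x.2.1 * repFour * x.2.2.1)

instance : DecidablePred okCert := fun x => by unfold okCert; infer_instance

theorem certs_ok : ∀ x ∈ certsFour, okCert x := by decide +kernel

theorem cubic_cert : ∀ c b : ZMod 3, c ≠ 0 → ∃ x ∈ certsFour, x.1 = cubicFour c b := by decide +kernel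

theorem quad_cert : ∀ b d : ZMod 3, d ≠ 0 → ∃ x ∈ certsFour, x.1 = quadFour b d := by decide +kernel

variable {K : Type*} [Field K]

/-- The polynomial of the representative. -/
noncomputable def polyFour (K : Type*) [Field K] : K[X] := (X + 1) * (X ^ 3 - X + 1)

theorem reverse_cubic : ((X : K[X]) ^ 3 - X + 1).reverse = X ^ 3 - X ^ 2 + 1 := by
  have hd : ((X : K[X]) ^ 3 - X + 1).natDegree = 3 := by compute_degree!
  ext i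
  rw [coeff_reverse, hd]
  match i with
  | 0 => rw [revAt_le (by omega)]; simp [coeff_X, coeff_one]
  | 1 => rw [revAt_le (by omega)]; simp [coeff_X, coeff_one]
  | 2 => rw [revAt_le (by omega)]; simp [coeff_X, coeff_one]
  | 3 => rw [revAt_le (by omega)]; simp [coeff_X, coeff_one]
  | j + 4 => rw [revAt_eq_self_of_lt (by omega)]; simp [coeff_X, coeff_one]

theorem goodPoly_four (h3 : (3 : K) = 0) : GoodPoly (polyFour K) := by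
  refine ⟨?_, ?_, X ^ 3 - X + 1, Or.inr ⟨rfl, ?_⟩, ?_⟩
  · simp [polyFour]
  · simp [polyFour]
    intro h
    exact one_ne_zero (α := K) (by linear_combination h3 - h)
  · simp only [eval_add, eval_sub, eval_pow, eval_X, eval_one]
    intro h
    exact one_ne_zero (α := K) (by linear_combination h)
  · rw [reverse_cubic, polyFour]
    refine IsCoprime.mul_left ?_ ⟨-X, 1 + X, by ring⟩
    rw [show (X + 1 : K[X]) = X - C (-1) by simp]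
    refine coprime_linear ?_
    simp only [eval_add, eval_sub, eval_pow, eval_X, eval_one]
    intro h
    exact one_ne_zero (α := K) (by linear_combination -h)

theorem quot_cert [CharP K 3] {x : M4 × M4 × M4 × M4 × M4} (hx : okCert x) :
    Quot (polyFour K) (x.1.map (ZMod.castHom (dvd_refl 3) K)) := by
  obtain ⟨M, S, S', P, P'⟩ := x
  obtain ⟨h1, h2, h3, h4, h5⟩ := hx
  set φ := (ZMod.castHom (dvd_refl 3) K).mapMatrix (m := Fin 4)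
  have e1 : φ S * φ S' = 1 := by rw [← map_mul, h1, map_one]
  have e2 : φ S' * φ S = 1 := by rw [← map_mul, h2, map_one]
  obtain ⟨hC, -⟩ := charpoly_comp_of_monic (K := K) (n := 2) (p := X ^ 3 - X + 1) (by monicity!) (by compute_degree!)
  set q : K[X] := X ^ 3 - X + 1 with hq
  set σ : Fin 1 ⊕ Fin 3 ≃ Fin 4 := finSumFinEquiv
  set B : Matrix (Fin 1 ⊕ Fin 3) (Fin 1 ⊕ Fin 3) K :=
    fromBlocks (diagonal fun _ => (-1 : K)) 0 0 (SLCommutator.comp q 3)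
  have h30 : (3 : K) = 0 := by exact_mod_cast CharP.cast_eq_zero K 3
  have hB : Matrix.reindex σ σ B = φ repFour := by
    have s0 : σ.symm 0 = Sum.inl 0 := by decide +revert
    have s1 : σ.symm 1 = Sum.inr 0 := by decide +revert
    have s2 : σ.symm 2 = Sum.inr 1 := by decide +revert
    have s3 : σ.symm 3 = Sum.inr 2 := by decide +revert
    ext i j
    rw [Matrix.reindex_apply, Matrix.submatrix_apply]
    fin_cases i <;> fin_cases j <;>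
      simp [s0, s1, s2, s3, φ, B, repFour, q, SLCommutator.comp, coeff_X, coeff_one, map_ofNat] <;>
      linear_combination -h30
  have hR : (φ repFour).charpoly = polyFour K := by
    rw [← hB, Matrix.charpoly_reindex, Matrix.charpoly_fromBlocks_zero₂₁, hC, charpoly_diagonal]
    simp [polyFour, q]
  have hS : Surj (φ repFour) := surj_sim σ (hB ▸ LevCover.sim_reindex σ B) (LevCover.surj_blocks (surj_unique _))
  have hs : Sim (φ repFour) (φ S * φ repFour * φ S') := ⟨_, _, e1, e2, rfl⟩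
  refine ⟨φ S * φ repFour * φ S', ?_, surj_sim (Equiv.refl _) hs hS, φ P, φ P', ?_, ?_, ?_⟩
  · rw [charpoly_sim_conj (Equiv.refl _) e2, hR]
  · rw [← map_mul, h3, map_one]
  · rw [← map_mul, h4, map_one]
  · show φ M * _ = _
    simp only [← map_mul]
    exact (congrArg φ h5).symm

theorem quot_cubicFour [CharP K 3] {c b : ZMod 3} (hc : c ≠ 0) :
    Quot (polyFour K) ((cubicFour c b).map (ZMod.castHom (dvd_refl 3) K)) := by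
  obtain ⟨x, hx, he⟩ := cubic_cert c b hc
  exact he ▸ quot_cert (certs_ok x hx)

theorem quot_quadFour [CharP K 3] {b d : ZMod 3} (hd : d ≠ 0) :
    Quot (polyFour K) ((quadFour b d).map (ZMod.castHom (dvd_refl 3) K)) := by
  obtain ⟨x, hx, he⟩ := quad_cert b d hd
  exact he ▸ quot_cert (certs_ok x hx)

end CfsgLib.OreGL
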