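import Cfsg.Agent.OreGL.Quot

/-!
# Matrices fixing no non-zero alternating form
-/

set_option autoImplicit false
set_option linter.unusedSectionVars false
set_option linter.unusedSimpArgs false

namespace CfsgLib.OreGL

open Matrix Polynomial
open CfsgLib.LevCover (Sim Surj)

variable {K : Type*} [Field K] {ι : Type*} [Fintype ι] [DecidableEq ι]

/-- No eigenvalue one, and no non-zero alternating form fixed by `R` or by its transpose. -/
def Good (R : Matrix ι ι K) : Prop :=
  (R - 1).det ≠ 0 ∧ (∀ S : Matrix ι ι K, Sᵀ = -S → R * S * Rᵀ = S → S = 0) ∧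
    ∀ S : Matrix ι ι K, Sᵀ = -S → Rᵀ * S * R = S → S = 0

/-- No two roots are inverse to each other, except a simple root minus one. -/
def GoodPoly (p : K[X]) : Prop :=
  p.eval 0 ≠ 0 ∧ p.eval 1 ≠ 0 ∧
    ∃ p₂ : K[X], (p = p₂ ∨ (p = (X + 1) * p₂ ∧ p₂.eval (-1) ≠ 0)) ∧ IsCoprime p p₂.reverse

theorem aeval_inv_mul_pow {A N : Matrix ι ι K} (hNA : N * A = 1) (f : K[X]) :
    aeval N f * A ^ f.natDegree = aeval A f.reverse := by
  have hc : ∀ i, i ≤ f.natDegree → N ^ i * A ^ f.natDegree = A ^ (f.natDegree - i) := by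
    intro i
    induction i with
    | zero => intro; simp
    | succ i ih =>
      intro h
      obtain ⟨j, hj⟩ : ∃ j, f.natDegree - i = j + 1 := ⟨f.natDegree - i - 1, by omega⟩
      rw [pow_succ', Matrix.mul_assoc, ih (by omega), hj, pow_succ', ← Matrix.mul_assoc, hNA, Matrix.one_mul]
      congr 1
      omega
  rw [aeval_eq_sum_range (x := N), aeval_eq_sum_range' (n := f.natDegree + 1)
    (lt_of_le_of_lt (reverse_natDegree_le f) (Nat.lt_succ_self _)), Finset.sum_mul,
    ← Finset.sum_range_reflect (fun i => f.reverse.coeff i • A ^ i)]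
  refine Finset.sum_congr rfl fun i hi => ?_
  rw [Finset.mem_range] at hi
  rw [Matrix.smul_mul, hc i (by omega), Nat.add_sub_cancel, coeff_reverse, revAt_le (by omega)]
  congr 2
  omega

theorem alt_zero (h2 : (2 : K) ≠ 0) {R : Matrix ι ι K} {p : K[X]} (hR : R.charpoly = p) (hp : GoodPoly p)
    {S : Matrix ι ι K} (hS : Sᵀ = -S) (h : R * S * Rᵀ = S) : S = 0 := by
  obtain ⟨hp0, -, p₂, hcase, hco⟩ := hp
  have hdet : R.det ≠ 0 := by
    intro h0
    apply hp0
    rw [← hR, Matrix.eval_charpoly]
    simp [Matrix.det_neg, h0]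
  have u : IsUnit Rᵀ.det := by rw [det_transpose]; exact isUnit_iff_ne_zero.2 hdet
  set N := (Rᵀ)⁻¹
  have hNA : N * Rᵀ = 1 := Matrix.nonsing_inv_mul _ u
  have hAN : Rᵀ * N = 1 := Matrix.mul_nonsing_inv _ u
  have hRS : R * S = S * N := by
    conv_rhs => rw [← h]
    rw [Matrix.mul_assoc _ Rᵀ, hAN, Matrix.mul_one]
  have hu : IsUnit (aeval N p₂) := by
    obtain ⟨a, b, hab⟩ := hco
    have h1 : aeval Rᵀ b * aeval Rᵀ p₂.reverse = 1 := by
      have := congrArg (aeval Rᵀ) hab
      rw [map_add, map_mul, map_mul, map_one, ← hR, ← Matrix.charpoly_transpose R,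
        Matrix.aeval_self_charpoly, mul_zero, zero_add] at this
      exact this
    rw [← aeval_inv_mul_pow hNA, ← Matrix.mul_assoc] at h1
    have h2' : IsUnit ((aeval Rᵀ b * aeval N p₂).det) := by
      have := congrArg det h1
      rw [det_mul, det_one] at this
      exact IsUnit.of_mul_eq_one _ this
    rw [det_mul] at h2'
    exact (Matrix.isUnit_iff_isUnit_det _).2 (isUnit_of_mul_isUnit_right h2')
  have hz : S * aeval N p = 0 := by
    rw [← aeval_intertwine p R N S hRS, ← hR, Matrix.aeval_self_charpoly, Matrix.zero_mul]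
  rcases hcase with hcase | ⟨hcase, hm⟩
  · rw [hcase] at hz
    exact hu.mul_left_eq_zero.1 hz
  · rw [hcase, map_mul, ← Matrix.mul_assoc] at hz
    have hz1 := hu.mul_left_eq_zero.1 hz
    rw [map_add, aeval_X, map_one, Matrix.mul_add, Matrix.mul_one, ← hRS] at hz1
    have hle : LinearMap.range (Matrix.toLin' S) ≤ Module.End.eigenspace (Matrix.toLin' R) (-1) := by
      rintro _ ⟨x, rfl⟩
      rw [Module.End.mem_eigenspace_iff, Matrix.toLin'_apply, Matrix.toLin'_apply, mulVec_mulVec,
        eq_neg_of_add_eq_zero_left hz1, neg_mulVec, neg_one_smul]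
    have hmult : (Matrix.toLin' R).charpoly.rootMultiplicity (-1 : K) ≤ 1 := by
      rw [Matrix.charpoly_toLin', hR, hcase]
      have hne : (X + 1 : K[X]) * p₂ ≠ 0 := by rw [← hcase, ← hR]; exact (charpoly_monic R).ne_zero
      rw [rootMultiplicity_mul hne, rootMultiplicity_eq_zero (p := p₂) hm,
        show (X + 1 : K[X]) = X - C (-1) by simp, rootMultiplicity_X_sub_C_self]
    have hrk : Module.finrank K (LinearMap.range (Matrix.toLin' S)) ≤ 1 :=
      (Submodule.finrank_mono hle).trans ((LinearMap.finrank_eigenspace_le _ _).trans hmult)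
    obtain ⟨w, hw⟩ := (Submodule.finrank_le_one_iff_isPrincipal _).1 hrk
    have hcol : ∀ j, ∃ a : K, a • w = S *ᵥ Pi.single j 1 := fun j =>
      Submodule.mem_span_singleton.1 (hw ▸ ⟨Pi.single j 1, Matrix.toLin'_apply S _⟩)
    choose a ha using hcol
    have hSe : ∀ i j, S i j = a j * w i := fun i j => by
      have := congrFun (ha j) i
      rw [mulVec_single_one] at this
      simpa using this.symm
    have hd : ∀ i, S i i = 0 := fun i => by
      have := congrFun (congrFun hS i) i
      simp only [transpose_apply, Matrix.neg_apply] at this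
      exact (mul_eq_zero.1 (show (2 : K) * S i i = 0 by linear_combination this)).resolve_left h2
    ext i j
    have := congrFun (congrFun hS i) j
    simp only [transpose_apply, Matrix.neg_apply] at this
    have h3 : S i j * S i j = 0 := by
      have e : S i j * S j i = S i i * S j j := by rw [hSe i j, hSe j i, hSe i i, hSe j j]; ring
      rw [hd, zero_mul, this] at e
      linear_combination -e
    simpa using h3

theorem good_of_charpoly (h2 : (2 : K) ≠ 0) {R : Matrix ι ι K} {p : K[X]} (hR : R.charpoly = p)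
    (hp : GoodPoly p) : Good R := by
  refine ⟨fun h0 => hp.2.1 ?_, fun S hS h => alt_zero h2 hR hp hS h, fun S hS h => ?_⟩
  · rw [← hR, Matrix.eval_charpoly, map_one, ← neg_sub, Matrix.det_neg, h0, mul_zero]
  · exact alt_zero h2 (R := Rᵀ) (by rw [Matrix.charpoly_transpose, hR]) hp hS (by rwa [transpose_transpose])

/-- Some invertible good matrix with square determinant and determinant-surjective centraliser is similar to `M R`. -/
def Factors (M : Matrix ι ι K) : Prop :=
  ∃ R : Matrix ι ι K, Good R ∧ R.det ≠ 0 ∧ IsSquare R.det ∧ Surj R ∧ Sim R (M * R)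

theorem Quot.factors (h2 : (2 : K) ≠ 0) {p : K[X]} {M : Matrix ι ι K} (h : Quot p M) (hp : GoodPoly p)
    (hsq : IsSquare ((-1) ^ Fintype.card ι * p.eval 0)) : Factors M := by
  obtain ⟨R, hR, hS, hsim⟩ := h
  refine ⟨R, good_of_charpoly h2 hR hp, ?_, ?_, hS, hsim⟩
  · rw [Matrix.det_eq_sign_charpoly_coeff, hR, coeff_zero_eq_eval_zero]
    exact mul_ne_zero (pow_ne_zero _ (neg_ne_zero.2 one_ne_zero)) hp.1
  · rwa [Matrix.det_eq_sign_charpoly_coeff, hR, coeff_zero_eq_eval_zero]

/-- Reading a factorisation in a similar matrix. -/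
theorem Factors.of_sim {κ : Type*} [Fintype κ] [DecidableEq κ] {M : Matrix ι ι K} {M' : Matrix κ κ K}
    (σ : ι ≃ κ) (h2 : (2 : K) ≠ 0) {p : K[X]} (h : Quot p M) (hp : GoodPoly p)
    (hsq : IsSquare ((-1) ^ Fintype.card ι * p.eval 0)) (hs : Sim M M') : Factors M' :=
  (h.of_sim σ hs).factors h2 hp (by rwa [← Fintype.card_congr σ])

end CfsgLib.OreGL
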