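import Cfsg.Agent.OreGL.Tri
import Cfsg.Agent.LevCover.Pseudo

/-!
# Classes reached by the triangular construction
-/

set_option autoImplicit false
set_option linter.unusedSectionVars false
set_option linter.unusedSimpArgs false

namespace CfsgLib.OreGL

open Matrix Polynomial
open CfsgLib.LevCover (Sim Cyc Runs)

variable {K : Type*} [Field K]

theorem exists_ne_two (h2 : (2 : K) ≠ 0) (c : K) : ∃ w : K, w ≠ 0 ∧ c - w ≠ 0 := by
  by_cases h : c = 1
  · exact ⟨-1, neg_ne_zero.2 one_ne_zero, fun h' => h2 (by rw [h] at h'; linear_combination h')⟩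
  · exact ⟨1, one_ne_zero, sub_ne_zero.2 h⟩

theorem pre_one_of_monic {n : ℕ} {p : K[X]} (hp : p.Monic) (hd : p.natDegree = n + 1) :
    Pre p (1 : Matrix (Fin (n + 1)) (Fin (n + 1)) K) :=
  pre_one (charpoly_comp_of_monic hp hd).1

/-- A cyclic matrix of determinant one with split characteristic polynomial. -/
theorem pre_split [Fintype K] (h2 : (2 : K) ≠ 0) {n : ℕ} {p : K[X]} (hp : p.Monic) (hd : p.natDegree = n + 1)
    (hp0 : p.eval 0 ≠ 0) {M : Matrix (Fin (n + 1)) (Fin (n + 1)) K} (hM : Cyc M) {β : Fin (n + 1) → K}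
    (hχ : M.charpoly = ∏ i, (X - C (β i))) (hprod : ∏ i, β i = 1) (hβ : ∀ i, β i ≠ 0)
    (hn : 2 ≤ n ∨ n = 0 ∨ (n = 1 ∧ (∀ i, β i ≠ 1) ∧ p.coeff 1 ≠ 0)) : Pre p M := by
  classical
  obtain ⟨hC, -⟩ := charpoly_comp_of_monic hp hd
  obtain ⟨σ, hσ⟩ := LevCover.exists_runs_perm β
  set v : ℕ → K := fun i => if h : i < n + 1 then β (σ ⟨i, h⟩) else 1 with hv
  have hvi : ∀ i : Fin (n + 1), v i.val = β (σ i) := fun i => by simp only [hv, dif_pos i.isLt, Fin.eta]
  have hv0 : ∀ i, v i ≠ 0 := fun i => by simp only [hv]; split_ifs <;> simp [hβ]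
  have hvp : ∏ i ∈ Finset.range (n + 1), v i = 1 := by
    rw [Finset.prod_range, ← hprod, ← Equiv.prod_comp σ β]
    exact Finset.prod_congr rfl fun i _ => hvi i
  obtain ⟨u, hu, hlast⟩ : ∃ u : ℕ → K, (∀ l, l + 1 < n → u l ≠ 0) ∧
      (n = 0 ∨ (v n - 1) * p.coeff n - ∑ l ∈ Finset.range (n - 1), u l ≠ 0) := by
    rcases hn with hn | hn | ⟨hn, hβ1, hpc⟩
    · obtain ⟨k, rfl⟩ : ∃ k, n = k + 2 := ⟨n - 2, by omega⟩
      obtain ⟨w, hw0, hw⟩ := exists_ne_two h2 ((v (k + 2) - 1) * p.coeff (k + 2) - ∑ l ∈ Finset.range k, (1 : K))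
      refine ⟨fun l => if l = k then w else 1, fun l _ => by simp only; split_ifs <;> simp [hw0], Or.inr ?_⟩
      rw [show k + 2 - 1 = k + 1 by omega, Finset.sum_range_succ, if_pos rfl,
        Finset.sum_congr rfl (fun l hl => if_neg (Finset.mem_range.1 hl).ne), ← sub_sub]
      exact hw
    · exact ⟨fun _ => 1, fun l _ => one_ne_zero, Or.inl hn⟩
    · subst hn
      refine ⟨fun _ => 1, fun l _ => one_ne_zero, Or.inr ?_⟩
      rw [show (1 : ℕ) - 1 = 0 from rfl, Finset.range_zero, Finset.sum_empty, sub_zero]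
      refine mul_ne_zero (sub_ne_zero.2 ?_) hpc
      simp only [hv, dif_pos (show 1 < 1 + 1 by omega)]
      exact hβ1 _
  obtain ⟨Nm, hP, hl, hdg, hs, hse, -, -⟩ := exists_tri hC hp0 v u hv0 hvp
  have hsup : ∀ i j : Fin (n + 1), j.val = i.val + 1 → Nm i j ≠ 0 := by
    intro i j hij
    have := j.isLt
    rcases Nat.lt_or_ge j.val n with hj | hj
    · rw [hs i j hij hj]; exact hu _ (by omega)
    · rw [hse i j hij (by omega)]; exact hlast.resolve_left (by omega)
  have hc : Cyc Nm := cyc_of_super hl hsup fun i j k h1 h2' he => by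
    rw [hdg, hdg, hvi, hvi] at he ⊢
    exact hσ i j k h1 h2' he
  refine hP.of_sim (Equiv.refl _) (LevCover.sim_of_cyc hc hM ?_)
  rw [hχ, Matrix.charpoly_of_isUpperTriangular _ (fun i j h => hl i j h)]
  simp only [hdg, hvi]
  exact Equiv.prod_comp σ (fun i => X - C (β i))

/-- A scalar block and a cyclic block with one other eigenvalue. -/
theorem pre_scalar_block {a b : ℕ} (ha1 : 1 ≤ a) {p : K[X]} (hp : p.Monic) (hd : p.natDegree = a + (b + 1))
    (hp0 : p.eval 0 ≠ 0) {ν μ : K} (hν : ν ≠ 0) (hμ : μ ≠ 0) (hne : ν ≠ μ) (hprod : ν ^ a * μ ^ (b + 1) = 1)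
    {Cm : Matrix (Fin (b + 1)) (Fin (b + 1)) K} (hCm : Cyc Cm) (hχ : Cm.charpoly = (X - C μ) ^ (b + 1)) :
    Pre p (fromBlocks (ν • (1 : Matrix (Fin a) (Fin a) K)) 0 0 Cm) := by
  classical
  obtain ⟨hC, -⟩ := charpoly_comp_of_monic (n := a + b) hp hd
  set v : ℕ → K := fun i => if i < a then ν else μ with hv
  have hv0 : ∀ i, v i ≠ 0 := fun i => by simp only [hv]; split_ifs <;> assumption
  have hvp : ∏ i ∈ Finset.range (a + b + 1), v i = 1 := by
    rw [show a + b + 1 = a + (b + 1) by omega, Finset.prod_range_add,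
      Finset.prod_congr rfl (fun i hi => if_pos (Finset.mem_range.1 hi)),
      Finset.prod_congr rfl (fun i _ => if_neg (show ¬ a + i < a by omega)), Finset.prod_const, Finset.prod_const,
      Finset.card_range, Finset.card_range]
    exact hprod
  obtain ⟨u, hu0, hu, hlast⟩ : ∃ u : ℕ → K, (∀ l, l + 1 < a → u l = 0) ∧ (∀ l, a ≤ l → l + 1 < a + b → u l ≠ 0) ∧
      (b = 0 ∨ (v (a + b) - 1) * p.coeff (a + b) - ∑ l ∈ Finset.range (a + b - 1), u l ≠ 0) := by
    set c := (v (a + b) - 1) * p.coeff (a + b) - ∑ l ∈ Finset.range (a + b - 1), (if a ≤ l then (1 : K) else 0)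
    by_cases ha : 1 ≤ a ∧ 1 ≤ b ∧ c = 0
    · refine ⟨fun l => if a ≤ l then 1 else if l + 1 = a then 1 else 0, fun l hl => ?_, fun l hl _ => ?_, Or.inr ?_⟩
      · simp only [if_neg (show ¬ a ≤ l by omega), if_neg (show ¬ l + 1 = a by omega)]
      · simp only [if_pos hl]; exact one_ne_zero
      · have e : ∑ l ∈ Finset.range (a + b - 1), (if a ≤ l then (1 : K) else if l + 1 = a then 1 else 0) =
            ∑ l ∈ Finset.range (a + b - 1), (if a ≤ l then (1 : K) else 0) + 1 := by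
          have e1 : (1 : K) = ∑ l ∈ Finset.range (a + b - 1), if l = a - 1 then 1 else 0 := by
            rw [Finset.sum_ite_eq' (Finset.range (a + b - 1)) (a - 1) (fun _ => (1 : K)),
              if_pos (Finset.mem_range.2 (by omega))]
          conv_rhs => arg 2; rw [e1]
          rw [← Finset.sum_add_distrib]
          refine Finset.sum_congr rfl fun l _ => ?_
          split_ifs <;> first | omega | simp
        rw [e, ← sub_sub, show _ - _ = c from rfl, ha.2.2, zero_sub]
        exact neg_ne_zero.2 one_ne_zero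
    · refine ⟨fun l => if a ≤ l then 1 else 0, fun l hl => if_neg (by omega),
        fun l hl _ => by simp only [if_pos hl]; exact one_ne_zero, ?_⟩
      rcases Nat.eq_zero_or_pos b with hb | hb
      · exact Or.inl hb
      · exact Or.inr fun h => ha ⟨ha1, hb, h⟩
  obtain ⟨Nm, hP, hl, hdg, hs, hse, hz, -⟩ := exists_tri hC hp0 v u hv0 hvp
  set N' : Matrix (Fin a ⊕ Fin (b + 1)) (Fin a ⊕ Fin (b + 1)) K :=
    Matrix.reindex (finSumFinEquiv.trans (finCongr (show a + (b + 1) = a + b + 1 by omega))).symm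
      (finSumFinEquiv.trans (finCongr (show a + (b + 1) = a + b + 1 by omega))).symm Nm with hN'
  set σ := finSumFinEquiv.trans (finCongr (show a + (b + 1) = a + b + 1 by omega)) with hσ
  have hvl : ∀ x : Fin a, (σ (Sum.inl x)).val = x.val := fun x => by simp [hσ]
  have hvr : ∀ x : Fin (b + 1), (σ (Sum.inr x)).val = a + x.val := fun x => by simp [hσ]
  set C' := N'.toBlocks₂₂ with hC'
  have h11 : N'.toBlocks₁₁ = ν • (1 : Matrix (Fin a) (Fin a) K) := by
    ext i j
    show Nm (σ (Sum.inl i)) (σ (Sum.inl j)) = _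
    rcases eq_or_ne i j with rfl | hij
    · rw [hdg, hvl]; simp [hv]
    · rw [hz a (by omega) hu0 _ _ (by rw [hvl]; exact j.isLt) (fun e => hij (Sum.inl_injective (σ.injective e)))]
      simp [hij]
  have h21 : N'.toBlocks₂₁ = 0 := by
    ext i j
    exact hl _ _ (by rw [Fin.lt_def]; show (σ (Sum.inl j)).val < (σ (Sum.inr i)).val; rw [hvl, hvr]; omega)
  have hC'l : ∀ i j : Fin (b + 1), j < i → C' i j = 0 := fun i j h =>
    hl _ _ (by rw [Fin.lt_def] at h ⊢; show (σ (Sum.inr j)).val < (σ (Sum.inr i)).val; rw [hvr, hvr]; omega)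
  have hC'd : ∀ i, C' i i = μ := fun i => by
    show Nm (σ (Sum.inr i)) (σ (Sum.inr i)) = _
    rw [hdg, hvr]
    simp [hv]
  have hC'c : Cyc C' := cyc_of_super hC'l (fun i j hij => by
    show Nm (σ (Sum.inr i)) (σ (Sum.inr j)) ≠ 0
    have := j.isLt
    rcases Nat.lt_or_ge (a + j.val) (a + b) with hj | hj
    · rw [hs _ _ (by rw [hvr, hvr]; omega) (by rw [hvr]; exact hj), hvr]
      exact hu _ (by omega) (by omega)
    · rw [hse _ _ (by rw [hvr, hvr]; omega) (by rw [hvr]; omega)]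
      exact hlast.resolve_left (by omega)) fun i j k _ _ _ => by rw [hC'd, hC'd]
  have hC'χ : C'.charpoly = (X - C μ) ^ (b + 1) := by
    rw [Matrix.charpoly_of_isUpperTriangular _ (fun i j h => hC'l i j h)]
    simp [hC'd]
  have hN : N' = fromBlocks (ν • (1 : Matrix (Fin a) (Fin a) K)) N'.toBlocks₁₂ 0 C' := by
    rw [← h11, ← h21, hC', fromBlocks_toBlocks]
  refine (hP.of_sim σ.symm (M' := N') (LevCover.sim_reindex σ.symm Nm)).of_sim (Equiv.refl _) ?_
  rw [hN]
  refine (sim_diag_upper ?_ _).trans (LevCover.sim_blocks (Sim.refl _) (LevCover.sim_of_cyc hC'c hCm (by rw [hC'χ, hχ])))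
  rw [hC'χ, Matrix.smul_one_eq_diagonal, charpoly_diagonal]
  refine IsCoprime.prod_left fun i _ => IsCoprime.pow_right ?_
  exact isCoprime_X_sub_C_of_isUnit_sub (isUnit_iff_ne_zero.2 (sub_ne_zero.2 hne))

/-- Minus a transvection, in even dimension. -/
theorem pre_pseudo {k : ℕ} (h2 : (2 : K) ≠ 0) (hk : Even k) {p : K[X]} (hp : p.Monic)
    (hd : p.natDegree = k + 2) (hp0 : p.eval 0 ≠ 0) (hodd : ∃ j, p.coeff (2 * j + 1) ≠ 0)
    {w φ : Fin (k + 2) → K} (hw : w ≠ 0) (hφ : φ ≠ 0) (h0 : φ ⬝ᵥ w = 0) :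
    Pre p ((-1 : K) • (1 + vecMulVec w φ)) := by
  classical
  obtain ⟨hC, -⟩ := charpoly_comp_of_monic (n := k + 1) hp hd
  obtain ⟨Nm, hP, hl, hdg, -, -, hz, hlast⟩ := exists_tri hC hp0 (fun _ => (-1 : K)) (fun _ => 0)
    (fun _ => neg_ne_zero.2 one_ne_zero) (by rw [Finset.prod_const, Finset.card_range, show k + 1 + 1 = k + 2 from rfl, (hk.add even_two).neg_one_pow])
  set e : Fin (k + 2) → K := Pi.single (Fin.last (k + 1)) 1 with he
  set w' : Fin (k + 2) → K := fun i => if i = Fin.last (k + 1) then 0 else - Nm i (Fin.last (k + 1)) with hw'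
  have hN : Nm = (-1 : K) • (1 + vecMulVec w' e) := by
    ext i j
    rcases eq_or_ne j (Fin.last (k + 1)) with rfl | hj
    · rcases eq_or_ne i (Fin.last (k + 1)) with rfl | hi
      · simp [hdg, hw', he, vecMulVec_apply]
      · simp [hw', he, vecMulVec_apply, hi]
    · have hjv : j.val < k + 1 := by
        have := j.isLt
        have : j.val ≠ k + 1 := fun h => hj (Fin.ext h)
        omega
      rcases eq_or_ne i j with rfl | hij
      · simp [hdg, he, vecMulVec_apply, hj]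
      · rw [hz (k + 1) le_rfl (fun _ _ => rfl) i j hjv hij]
        simp [he, vecMulVec_apply, hj, hij]
  have hw'0 : w' ≠ 0 := by
    intro h
    obtain ⟨j, hj⟩ := hodd
    have hjle : 2 * j + 1 ≤ k + 2 := hd ▸ le_natDegree_of_ne_zero hj
    obtain ⟨i, hi⟩ := hk
    have hlt : 2 * j < k + 1 := by omega
    have h1 := hlast (fun _ => rfl) ⟨2 * j, by omega⟩ hlt
    have h2' : Nm ⟨2 * j, by omega⟩ (Fin.last (k + 1)) = 0 := by
      have := congrFun h ⟨2 * j, by omega⟩
      rw [hw', Pi.zero_apply] at this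
      simp only at this
      rw [if_neg (fun e => by have := congrArg Fin.val e; simp at this; omega), neg_eq_zero] at this
      exact this
    rw [h2', zero_mul, Finset.prod_const, Finset.card_range, pow_succ, (even_two_mul j).neg_one_pow] at h1
    exact hj ((mul_eq_zero.1 h1.symm).resolve_left (fun h' => h2 (by linear_combination h')))
  have h0' : e ⬝ᵥ w' = 0 := by simp [he, hw']
  rw [hN] at hP
  obtain ⟨P, P', e1, e2, e3⟩ := LevCover.sim_rank_one hw'0 (show e ≠ 0 from fun h => by simpa [he] using congrFun h (Fin.last (k + 1))) hw hφ (h0'.trans h0.symm)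
  exact hP.of_sim (Equiv.refl _) ⟨P, P', e1, e2, by rw [Matrix.mul_smul, Matrix.smul_mul, ← e3]⟩

end CfsgLib.OreGL
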