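import Cfsg.Agent.OreGL.Stacks
import Cfsg.Agent.OreGL.Uses

/-!
# The corner and the triangular complement of a layout
-/

set_option autoImplicit false
set_option linter.unusedSectionVars false
set_option linter.unusedSimpArgs false

namespace CfsgLib.OreGL

open Matrix Polynomial
open CfsgLib.LevCover (Sim Hess Cyc)

variable {K : Type*} [Field K] [Fintype K]

/-- The polynomial is a product of linear factors. -/
def SplitP (p : K[X]) : Prop := ∃ (n : ℕ) (β : Fin n → K), p = ∏ i, (X - C (β i))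

theorem SplitP.mul {p q : K[X]} (hp : SplitP p) (hq : SplitP q) : SplitP (p * q) := by
  obtain ⟨a, β, rfl⟩ := hp
  obtain ⟨b, γ, rfl⟩ := hq
  refine ⟨a + b, Fin.append β γ, ?_⟩
  rw [Fin.prod_univ_add]
  simp

theorem SplitP.prod {ι : Type*} (s : Finset ι) (f : ι → K[X]) (h : ∀ i ∈ s, SplitP (f i)) :
    SplitP (∏ i ∈ s, f i) := by
  classical
  induction s using Finset.induction_on with
  | empty => exact ⟨0, Fin.elim0, by simp⟩
  | insert i s hi ih =>
    rw [Finset.prod_insert hi]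
    exact (h i (Finset.mem_insert_self i s)).mul (ih fun j hj => h j (Finset.mem_insert_of_mem hj))

/-- The corner. -/
theorem pre_corner (h2 : (2 : K) ≠ 0) {k : ℕ} {D : Matrix (Fin k) (Fin k) K} (hD : Hess D)
    (hsplit : SplitP D.charpoly) (hdet : D.det = 1) {p : K[X]} (hp : p.Monic) (hd : p.natDegree = k)
    (hp0 : p.eval 0 ≠ 0) (hk : k = 1 ∨ 3 ≤ k ∨ (k = 2 ∧ D.charpoly.eval 1 ≠ 0 ∧ p.coeff 1 ≠ 0)) : Pre p D := by
  obtain ⟨n, rfl⟩ : ∃ n, k = n + 1 := ⟨k - 1, by omega⟩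
  obtain ⟨n', β, hβ⟩ := hsplit
  have hnd : D.charpoly.natDegree = n' := by
    rw [hβ, natDegree_prod_of_monic _ _ fun i _ => monic_X_sub_C _]
    simp
  rw [charpoly_natDegree_eq_dim, Fintype.card_fin] at hnd
  subst hnd
  have hprod : ∏ i, β i = 1 := by
    rw [← hdet, Matrix.det_eq_sign_charpoly_coeff, hβ, coeff_zero_eq_eval_zero, eval_prod, Fintype.card_fin]
    simp only [eval_sub, eval_X, eval_C, zero_sub, Finset.prod_neg, Finset.card_univ, Fintype.card_fin]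
    rw [← mul_assoc, ← mul_pow, neg_one_mul, neg_neg, one_pow, one_mul]
  have hβ0 : ∀ i, β i ≠ 0 := fun i =>
    (Finset.prod_ne_zero_iff.1 (by rw [hprod]; exact one_ne_zero)) i (Finset.mem_univ i)
  refine pre_split h2 hp hd hp0 (LevCover.cyc_hess hD) hβ hprod hβ0 ?_
  rcases hk with hk | hk | ⟨hk, h1, hc⟩
  · exact Or.inr (Or.inl (by omega))
  · exact Or.inl (by omega)
  · refine Or.inr (Or.inr ⟨by omega, fun i hi => h1 ?_, hc⟩)
    rw [hβ, eval_prod]
    exact Finset.prod_eq_zero (Finset.mem_univ i) (by simp [hi])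

theorem charpoly_lower {r : ℕ} {G : Matrix (Fin r) (Fin r) K} (hl : ∀ i j : Fin r, i < j → G i j = 0) :
    G.charpoly = ∏ i, (X - C (G i i)) := by
  rw [← Matrix.charpoly_transpose, Matrix.charpoly_of_isUpperTriangular Gᵀ (fun i j h => hl j i h)]
  simp

theorem cyc_lower {r : ℕ} {G : Matrix (Fin r) (Fin r) K} (hl : ∀ i j : Fin r, i < j → G i j = 0)
    (hs : ∀ i j : Fin r, i.val = j.val + 1 → G i j ≠ 0)
    (hrun : ∀ i j k : Fin r, i < j → j < k → G i i = G k k → G i i = G j j) : Cyc G :=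
  LevCover.cyc_of_isCyc (SLCommutator.isCyc_lower hl (fun i j h _ => hs i j h) hrun)

/-- The whole scalar-free complement. -/
theorem pre_complement (h2 : (2 : K) ≠ 0) {r : ℕ} {G : Matrix (Fin r) (Fin r) K}
    (hl : ∀ i j : Fin r, i < j → G i j = 0) (hs : ∀ i j : Fin r, i.val = j.val + 1 → G i j ≠ 0) {ε : K}
    (hv : ∀ i, G i i = ε) (hε : ε ^ r = 1) {p : K[X]} (hp : p.Monic) (hd : p.natDegree = r) (hp0 : p.eval 0 ≠ 0)
    (hr : r = 1 ∨ 3 ≤ r ∨ (r = 2 ∧ ε ≠ 1 ∧ p.coeff 1 ≠ 0)) :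
    Pre p (fromBlocks G 0 (0 : Matrix (Fin 0) (Fin r) K) (1 : Matrix (Fin 0) (Fin 0) K)) := by
  obtain ⟨n, rfl⟩ : ∃ n, r = n + 1 := ⟨r - 1, by omega⟩
  have hc : Cyc G := cyc_lower hl hs fun i j k _ _ _ => by rw [hv, hv]
  have h : Pre p G := by
    refine pre_split h2 hp hd hp0 hc (β := fun _ => ε) (by rw [charpoly_lower hl]; simp only [hv]) ?_ (fun _ h0 => ?_) ?_
    · simpa using hε
    · rw [h0, zero_pow (by omega)] at hε
      exact zero_ne_one hε
    · rcases hr with hr | hr | ⟨hr, h1, h1'⟩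
      · exact Or.inr (Or.inl (by omega))
      · exact Or.inl (by omega)
      · exact Or.inr (Or.inr ⟨by omega, fun _ => h1, h1'⟩)
  refine h.of_sim ((Equiv.sumEmpty _ _).symm) (LevCover.Sim.of_reindex (Equiv.sumEmpty _ _).symm ?_)
  ext (i | i) (j | j)
  · simp
  · exact j.elim0
  · exact i.elim0
  · exact i.elim0

/-- All diagonal values avoid the scalar. -/
theorem pre_avoid {r a : ℕ} (hr : 1 ≤ r) (ha : 1 ≤ a) {G : Matrix (Fin r) (Fin r) K}
    (hl : ∀ i j : Fin r, i < j → G i j = 0) (hs : ∀ i j : Fin r, i.val = j.val + 1 → G i j ≠ 0) {ν μ : K}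
    (hν : ν ≠ 0) (hμ : μ ≠ 0) (hne : ν ≠ μ) (hv : ∀ i, G i i = μ) (hprod : ν ^ a * μ ^ r = 1) {p : K[X]}
    (hp : p.Monic) (hd : p.natDegree = r + a) (hp0 : p.eval 0 ≠ 0) :
    Pre p (fromBlocks G 0 0 (ν • (1 : Matrix (Fin a) (Fin a) K))) := by
  obtain ⟨b, rfl⟩ : ∃ b, r = b + 1 := ⟨r - 1, by omega⟩
  refine (pre_scalar_block ha hp (by omega) hp0 hν hμ hne hprod (cyc_lower hl hs fun i j k _ _ _ => by rw [hv, hv])
    ?_).of_sim (Equiv.sumComm _ _) (LevCover.sim_comm _ _)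
  rw [charpoly_lower hl]
  simp [hv]

/-- The first diagonal value joins the scalar. -/
theorem pre_merge {r a : ℕ} (hr : 2 ≤ r) {G : Matrix (Fin r) (Fin r) K}
    (hl : ∀ i j : Fin r, i < j → G i j = 0) (hs : ∀ i j : Fin r, i.val = j.val + 1 → G i j ≠ 0) {ν μ : K}
    (hν : ν ≠ 0) (hμ : μ ≠ 0) (hne : ν ≠ μ) (hv0 : ∀ i : Fin r, i.val = 0 → G i i = ν)
    (hv : ∀ i : Fin r, i.val ≠ 0 → G i i = μ) (hprod : ν ^ (a + 1) * μ ^ (r - 1) = 1) {p : K[X]}
    (hp : p.Monic) (hd : p.natDegree = r + a) (hp0 : p.eval 0 ≠ 0) :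
    Pre p (fromBlocks G 0 0 (ν • (1 : Matrix (Fin a) (Fin a) K))) := by
  obtain ⟨b, rfl⟩ : ∃ b, r = 1 + (b + 1) := ⟨r - 2, by omega⟩
  set σ : Fin 1 ⊕ Fin (b + 1) ≃ Fin (1 + (b + 1)) := finSumFinEquiv
  set A := (G.submatrix σ σ).toBlocks₂₁
  set G' := (G.submatrix σ σ).toBlocks₂₂
  have hv' : ∀ i, G' i i = μ := fun i => hv _ (by simp [σ])
  have hl' : ∀ i j : Fin (b + 1), i < j → G' i j = 0 := fun i j h =>
    hl _ _ (by rw [Fin.lt_def] at h ⊢; simp [σ]; omega)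
  have hs' : ∀ i j : Fin (b + 1), i.val = j.val + 1 → G' i j ≠ 0 := fun i j h => hs _ _ (by simp [σ]; omega)
  have hχ : G'.charpoly = (X - C μ) ^ (b + 1) := by rw [charpoly_lower hl']; simp [hv']
  have hG : G.submatrix σ σ = fromBlocks (ν • (1 : Matrix (Fin 1) (Fin 1) K)) 0 A G' := by
    conv_lhs => rw [← fromBlocks_toBlocks (G.submatrix σ σ)]
    congr 1
    · ext i j
      fin_cases i; fin_cases j
      show G (σ (Sum.inl 0)) (σ (Sum.inl 0)) = _
      rw [hv0 _ (by simp [σ])]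
      simp
    · ext i j
      exact hl _ _ (by rw [Fin.lt_def]; simp [σ])
  have hco : IsCoprime (ν • (1 : Matrix (Fin 1) (Fin 1) K)).charpoly G'.charpoly := by
    rw [hχ, Matrix.smul_one_eq_diagonal, charpoly_diagonal, Fin.prod_univ_one]
    exact IsCoprime.pow_right (isCoprime_X_sub_C_of_isUnit_sub (isUnit_iff_ne_zero.2 (sub_ne_zero.2 hne)))
  have h1 : Sim G (fromBlocks (ν • (1 : Matrix (Fin 1) (Fin 1) K)) 0 0 G') :=
    (LevCover.sim_reindex σ.symm G).trans (by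
      rw [Matrix.reindex_apply, Equiv.symm_symm, hG]
      exact sim_diag_lower hco A)
  have hp' := pre_scalar_block (a := a + 1) (b := b) (by omega) hp (by omega) hp0 hν hμ hne
    (by simpa using hprod) (cyc_lower hl' hs' fun i j k _ _ _ => by rw [hv', hv']) hχ
  let τ : Fin (a + 1) ⊕ Fin (b + 1) ≃ Fin (1 + (b + 1)) ⊕ Fin a :=
    ((Equiv.sumCongr (finSumFinEquiv.trans (finCongr (by omega : 1 + a = a + 1))).symm (Equiv.refl _)).trans
      (Equiv.sumAssoc _ _ _)).trans (((Equiv.sumCongr (Equiv.refl _) (Equiv.sumComm _ _)).trans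
        (Equiv.sumAssoc _ _ _).symm).trans (Equiv.sumCongr σ (Equiv.refl _)))
  refine hp'.of_sim τ (Sim.symm ?_)
  refine (LevCover.sim_blocks h1 (Sim.refl _)).trans ((LevCover.sim_assoc _ _ _).trans ?_)
  refine (LevCover.sim_blocks (Sim.refl _) (LevCover.sim_comm _ _)).trans ((LevCover.sim_assoc _ _ _).symm.trans ?_)
  refine LevCover.sim_blocks ?_ (Sim.refl _)
  rw [LevCover.blocks_smul_one]
  exact LevCover.sim_smul_one ν (finSumFinEquiv.trans (finCongr (by omega)))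

/-- Minus one plus a nilpotent of rank one, on any index type. -/
theorem pre_pseudo_index {ι : Type*} [Fintype ι] [DecidableEq ι] {k : ℕ} (σ : ι ≃ Fin (k + 2)) (h2 : (2 : K) ≠ 0)
    (hk : Even k) {p : K[X]} (hp : p.Monic) (hd : p.natDegree = k + 2) (hp0 : p.eval 0 ≠ 0)
    (hodd : ∃ j, p.coeff (2 * j + 1) ≠ 0) {w φ : ι → K} (hw : w ≠ 0) (hφ : φ ≠ 0) (h0 : φ ⬝ᵥ w = 0) :
    Pre p ((-1 : K) • (1 + vecMulVec w φ)) := by
  have h := pre_pseudo h2 hk hp hd hp0 hodd (w := w ∘ σ.symm) (φ := φ ∘ σ.symm)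
    (fun e => hw (funext fun i => by simpa using congrFun e (σ i)))
    (fun e => hφ (funext fun i => by simpa using congrFun e (σ i)))
    (by show ∑ i, φ (σ.symm i) * w (σ.symm i) = 0; rw [Equiv.sum_comp σ.symm (fun i => φ i * w i)]; exact h0)
  refine h.of_sim σ.symm (LevCover.Sim.of_reindex σ.symm ?_)
  ext i j
  simp [Matrix.one_apply, vecMulVec_apply, add_comm]

end CfsgLib.OreGL
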