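import Cfsg.Agent.OreGL.Split
import Cfsg.Agent.OreGL.Polys

/-!
# The factorisation over fields with at least seven elements, and in odd dimension over five
-/

set_option autoImplicit false
set_option linter.unusedSectionVars false
set_option linter.unusedSimpArgs false

namespace CfsgLib.OreGL

open Matrix Polynomial
open CfsgLib.LevCover (Sim Surj)
open CfsgLib.SourourProduct (IsLower IsUpper)

variable {K : Type*} [Field K]

/-- The spectrum `-1, μ, λ, …, λ`. -/
def spec (n : ℕ) (μ l : K) : Fin (n + 2) → K := Fin.cons (-1) (Fin.cons μ fun _ => l)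

theorem spec_succ {n : ℕ} {μ l : K} (i : Fin (n + 1)) : spec n μ l i.succ = μ ∨ spec n μ l i.succ = l := by
  refine Fin.cases ?_ (fun i => ?_) i
  · left; simp [spec]
  · right; simp [spec]

theorem spec_runs {n : ℕ} {μ l : K} (hm : μ ≠ -1) (hl : l ≠ -1) :
    ∀ i j k : Fin (n + 2), i < j → j < k → spec n μ l i = spec n μ l k → spec n μ l i = spec n μ l j := by
  intro i j k hij hjk
  obtain ⟨k, rfl⟩ := Fin.exists_succ_eq.2 (show k ≠ 0 from fun h => by rw [h] at hjk; exact absurd hjk (Fin.not_lt_zero j))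
  obtain ⟨j, rfl⟩ := Fin.exists_succ_eq.2 (show j ≠ 0 from fun h => by rw [h] at hij; exact absurd hij (Fin.not_lt_zero i))
  revert hij
  refine Fin.cases ?_ (fun i => ?_) i
  · intro _ h
    rw [show spec n μ l 0 = -1 from rfl] at h
    rcases spec_succ (n := n) (μ := μ) (l := l) k with e | e <;> rw [e] at h
    · exact absurd h.symm hm
    · exact absurd h.symm hl
  · intro hij
    have h1 : i.val < j.val := Fin.succ_lt_succ_iff.1 hij
    have h2 : j.val < k.val := Fin.succ_lt_succ_iff.1 hjk
    obtain ⟨j, rfl⟩ := Fin.exists_succ_eq.2 (show j ≠ 0 from fun h => by rw [h] at h1; simp at h1)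
    obtain ⟨k, rfl⟩ := Fin.exists_succ_eq.2 (show k ≠ 0 from fun h => by rw [h] at h2; simp at h2)
    intro h
    simp only [spec, Fin.cons_succ] at h ⊢
    exact h

theorem spec_prod (n : ℕ) (μ l : K) : ∏ i, spec n μ l i = -1 * μ * l ^ n := by
  rw [Fin.prod_univ_succ, Fin.prod_univ_succ]
  simp [spec]
  try ring

variable [Fintype K]

theorem factors_spec (h2 : (2 : K) ≠ 0) (hc : 4 ≤ Fintype.card K) {n : ℕ} {M : Matrix (Fin (n + 2)) (Fin (n + 2)) K}
    (hdet : M.det = 1) (hM : M = 1 ∨ ∀ c : K, M ≠ c • 1) {μ l : K} (hμ0 : μ ≠ 0) (hl0 : l ≠ 0)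
    (hμl : μ * l ≠ 1) (hμ : μ * μ ≠ 1) (hl : l * l ≠ 1) (hsq : IsSquare (-1 * μ * l ^ n)) : Factors M := by
  classical
  set d := spec n μ l
  have hm1 : μ ≠ -1 := fun h => hμ (by rw [h]; ring)
  have hl1 : l ≠ -1 := fun h => hl (by rw [h]; ring)
  have hd0 : d 0 = -1 := rfl
  have hd : ∀ i, d i ≠ 0 := fun i => by
    refine Fin.cases ?_ (fun i => ?_) i
    · rw [hd0]; exact neg_ne_zero.2 one_ne_zero
    · rcases spec_succ (n := n) (μ := μ) (l := l) i with e | e <;> rw [show d i.succ = _ from e] <;> assumption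
  have hgood : GoodPoly (∏ i, (X - C (d i))) := by
    refine goodPoly_split d hd0 hd h2 (fun i => ?_) (fun i => ?_) fun i j => ?_
    · rcases spec_succ (n := n) (μ := μ) (l := l) i with e | e <;> rw [show d i.succ = _ from e] <;> intro h
      · exact hμ (by rw [h, one_mul])
      · exact hl (by rw [h, one_mul])
    · rcases spec_succ (n := n) (μ := μ) (l := l) i with e | e <;> rw [show d i.succ = _ from e] <;> assumption
    · rcases spec_succ (n := n) (μ := μ) (l := l) i with e | e <;>
        rcases spec_succ (n := n) (μ := μ) (l := l) j with e' | e' <;>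
          rw [show d i.succ = _ from e, show d j.succ = _ from e'] <;>
            first | assumption | (rw [mul_comm]; assumption)
  have hdsq : IsSquare ((-1) ^ Fintype.card (Fin (n + 2)) * (∏ i, (X - C (d i))).eval 0) := by
    rw [eval_prod, Fintype.card_fin]
    simp only [eval_sub, eval_X, eval_C, zero_sub, Finset.prod_neg, Finset.card_univ, Fintype.card_fin]
    rw [← mul_assoc, ← mul_pow, neg_one_mul, neg_neg, one_pow, one_mul, spec_prod]
    exact hsq
  by_cases hsm : SourourProduct.Small (M - 1)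
  · have hfac : (X - C (d 0)) * ∏ i : Fin (n + 1), (X - C (d i.succ)) = ∏ i, (X - C (d i)) :=
      (Fin.prod_univ_succ (f := fun i => X - C (d i))).symm
    have hco : IsCoprime (X - C (d 0)) (∏ i : Fin (n + 1), (X - C (d i.succ))) := by
      refine IsCoprime.prod_right fun i _ => coprime_linear ?_
      rw [eval_sub, eval_X, eval_C, sub_ne_zero, hd0]
      rcases spec_succ (n := n) (μ := μ) (l := l) i with e | e <;> rw [show d i.succ = _ from e] <;>
        apply Ne.symm <;> assumption
    have hq := quot_small (a := 0) (b := n) (n := n + 2) (by omega) hco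
      (R₁ := diagonal fun _ => d 0) (by rw [charpoly_diagonal, Fin.prod_univ_one]) (surj_unique (ι := Fin 1) _)
      (R₂ := diagonal fun i => d i.succ) (charpoly_diagonal _) hdet hsm
    rw [hfac] at hq
    exact hq.factors h2 hgood hdsq
  · have hns : ¬ SourourProduct.Scalar M := by
      rintro ⟨c, hc'⟩
      rcases hM with h | h
      · exact hsm ⟨0, 0, by rw [h, sub_self, zero_vecMulVec]⟩
      · exact h c hc'
    have hK : 4 ≤ Cardinal.mk K := by rw [Cardinal.mk_fintype]; exact_mod_cast hc
    obtain ⟨S, S', L, U, hS, hS', hSM, hL, hU, -, -⟩ :=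
      SourourProduct.exists_regular_factorisation hK (n + 1) M (Pi.single 0 1) (Pi.single 0 1) hdet
        (fun _ => ⟨hns, hsm⟩) (fun h => by simpa using congrFun h 0) (fun h => by simpa using congrFun h 0)
    have hq := quot_regular hL hU d hd (spec_runs hm1 hl1) (fun j hj => by
      obtain ⟨i, rfl⟩ := Fin.exists_succ_eq.2 (show j ≠ 0 from fun h => hj (by rw [h]; rfl))
      rw [hd0]
      rcases spec_succ (n := n) (μ := μ) (l := l) i with e | e <;> rw [show d i.succ = _ from e] <;> assumption)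
    exact (hq.of_sim (Equiv.refl _) (Sim.symm ⟨S, S', hS, hS', hSM.symm⟩)).factors h2 hgood hdsq

theorem exists_sq_ne (h : 7 ≤ Fintype.card K) : ∃ l : K, l ≠ 0 ∧ l * l ≠ 1 ∧ IsSquare l := by
  classical
  obtain ⟨x, -, hx⟩ := Finset.exists_mem_notMem_of_card_lt_card
    (s := insert (0 : K) (nthRoots 4 (1 : K)).toFinset) (t := Finset.univ) (by
      refine lt_of_le_of_lt (Finset.card_insert_le _ _) ?_
      have := (Multiset.toFinset_card_le _).trans (card_nthRoots 4 (1 : K))
      rw [Finset.card_univ]; omega)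
  simp only [Finset.mem_insert, Multiset.mem_toFinset, mem_nthRoots (show 0 < 4 by norm_num), not_or] at hx
  exact ⟨x * x, mul_ne_zero hx.1 hx.1, fun h => hx.2 (by rw [← h]; ring), x, rfl⟩

theorem factors_large (h2 : (2 : K) ≠ 0) {m : ℕ} (hm : 2 ≤ m)
    (hq : 7 ≤ Fintype.card K ∨ (Fintype.card K = 5 ∧ Odd m)) (M : Matrix (Fin m) (Fin m) K) (hdet : M.det = 1)
    (hM : M = 1 ∨ ∀ c : K, M ≠ c • 1) : Factors M := by
  obtain ⟨n, rfl⟩ : ∃ n, m = n + 2 := ⟨m - 2, by omega⟩
  rcases hq with h7 | ⟨h5, hodd⟩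
  · obtain ⟨l, hl0, hl, hlsq⟩ := exists_sq_ne h7
    by_cases hneg : IsSquare (-1 : K)
    · exact factors_spec h2 (by omega) hdet hM hl0 hl0 hl hl hl ((hneg.mul hlsq).mul (hlsq.pow n))
    · refine factors_spec h2 (by omega) hdet hM (μ := -l) (neg_ne_zero.2 hl0) hl0 (fun h => hneg ?_)
        (by rwa [neg_mul_neg]) hl ?_
      · exact ⟨l, by linear_combination h⟩
      · rw [show -1 * -l * l ^ n = l * l ^ n by ring]
        exact hlsq.mul (hlsq.pow n)
  · haveI : CharP K 5 := by
      obtain ⟨p, hp⟩ := CharP.exists K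
      haveI : Fact p.Prime := ⟨CharP.char_is_prime K p⟩
      obtain ⟨k, -, hk⟩ := FiniteField.card K p
      rw [h5] at hk
      have hp5 : p = 5 := by
        have hdvd : p ∣ 5 := by rw [hk]; exact dvd_pow_self p (PNat.pos k).ne'
        exact (Nat.prime_dvd_prime_iff_eq (CharP.char_is_prime K p) (by norm_num)).1 hdvd
      exact hp5 ▸ hp
    have h50 : (5 : K) = 0 := by exact_mod_cast CharP.cast_eq_zero K 5
    have h3 : (3 : K) ≠ 0 := fun h => h2 (by linear_combination h50 - h)
    refine factors_spec h2 (by omega) hdet hM (μ := 2) (l := 2) h2 h2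
      (fun h => h3 (by linear_combination h)) (fun h => h3 (by linear_combination h))
      (fun h => h3 (by linear_combination h)) ?_
    obtain ⟨j, hj⟩ := hodd
    obtain ⟨i, rfl⟩ : ∃ i, n = 2 * i + 1 := ⟨j - 1, by omega⟩
    refine ⟨2 * 2 ^ (i + 1) , ?_⟩
    linear_combination (-(4 : K) * (2 ^ i) ^ 2) * h50

end CfsgLib.OreGL
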