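import Cfsg.Agent.OreGL.Piece

/-!
# Layouts of normal forms and the factorisation along a layout
-/

set_option autoImplicit false
set_option linter.unusedSectionVars false
set_option linter.unusedSimpArgs false

namespace CfsgLib.OreGL

open Matrix Polynomial
open CfsgLib.LevCover (Sim Hess Cyc Stack)

variable {K : Type*} [Field K]

theorem sim_empty (A B : Matrix (Fin 0) (Fin 0) K) : Sim A B := ⟨0, 0, by ext i; exact i.elim0, by ext i; exact i.elim0, by ext i; exact i.elim0⟩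

theorem sim_padded {n : ℕ} (B : Matrix (Fin n) (Fin n) K) (Z : Matrix (Fin 0) (Fin 0) K) :
    Sim (fromBlocks B 0 0 Z) B := by
  refine LevCover.Sim.of_reindex (Equiv.sumEmpty _ _) ?_
  ext i j; simp

/-- Every stack without scalar part has layouts for all choices of the corner polynomials. -/
theorem exists_layouts {Pr : K[X] → Prop} {n : ℕ} {W : Matrix (Fin 0) (Fin 0) K} {g : Matrix (Fin n) (Fin n) K}
    (hst : Stack Pr W g) (hg : g.det ≠ 0) :
    ∃ (r : ℕ) (e : Fin r → ℕ) (f : Fin r → K[X]), n = ∑ i, e i + r ∧ (∀ i, 1 ≤ e i) ∧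
      (∀ i, Pr (f i) ∧ (f i).Monic ∧ (f i).natDegree = e i + 1) ∧
      g.det = ∏ i, (-1) ^ (f i).natDegree * (f i).eval 0 ∧
      (r = 1 → ∀ i, Cyc g ∧ g.charpoly = f i) ∧
      (r = 2 → (∀ i, e i = 1) → ∃ (A B : Matrix (Fin 2) (Fin 2) K) (i j : Fin r), i ≠ j ∧ Cyc A ∧ Cyc B ∧
        A.charpoly = f i ∧ B.charpoly = f j ∧ Sim (fromBlocks A 0 0 B) g) ∧
      ∀ hs : Fin r → K[X], (∀ i, (hs i).Monic ∧ (hs i).natDegree = e i ∧ (hs i).eval 0 ≠ 0) →
        ∀ k, k = ∑ i, e i → Layout (k := k) hs f g := by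
  induction hst with
  | base =>
    refine ⟨0, Fin.elim0, Fin.elim0, by simp, fun i => i.elim0, fun i => i.elim0, by simp, fun h => absurd h (by omega),
      fun h => absurd h (by omega), fun hs _ k hk => ?_⟩
    obtain rfl : k = 0 := by simpa using hk
    refine ⟨0, 0, 0, 0, 0, 0, 0, 0, ?_, by ext (i | i) <;> exact i.elim0, ⟨fun i => i.elim0, fun i => i.elim0⟩, by simp,
      fun i => i.elim0, fun i => i.elim0, fun i => i.elim0, fun i => i.elim0, fun h => absurd h (by omega)⟩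
    exact ⟨0, 0, by ext i; exact i.elim0, by ext (i | i) <;> exact i.elim0, by ext i; exact i.elim0⟩
  | @cons d m n X Z g hd hn hX hP _ hsim ih =>
    obtain ⟨hXd, hZd⟩ := LevCover.det_blocks_ne (hsim.symm.det_ne hg)
    obtain ⟨r, e, f, hm, he, hf, hdet, hone, -, hlay⟩ := ih hZd
    obtain ⟨e₀, rfl⟩ : ∃ e₀, d = e₀ + 1 := ⟨d - 1, by omega⟩
    refine ⟨r + 1, Fin.cons e₀ e, Fin.cons X.charpoly f, ?_, ?_, ?_, ?_, ?_, ?_, ?_⟩
    · rw [Fin.sum_cons]; omega
    · intro i; refine Fin.cases ?_ (fun i => ?_) i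
      · simp; omega
      · simpa using he i
    · intro i; refine Fin.cases ?_ (fun i => ?_) i
      · simp only [Fin.cons_zero]
        exact ⟨hP, charpoly_monic X, by rw [charpoly_natDegree_eq_dim, Fintype.card_fin]⟩
      · simpa using hf i
    · have h1 : g.det = (fromBlocks X 0 0 Z).det := by
        rw [← det_reindex_self (finSumFinEquiv.trans (finCongr hn)) (fromBlocks X 0 0 Z)]
        exact ((LevCover.sim_reindex _ _).symm.trans hsim).det_eq
      rw [h1, det_fromBlocks_zero₂₁, hdet, Fin.prod_univ_succ]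
      simp only [Fin.cons_zero, Fin.cons_succ]
      rw [charpoly_natDegree_eq_dim, ← coeff_zero_eq_eval_zero, ← Matrix.det_eq_sign_charpoly_coeff]
    · intro hr i
      obtain rfl : r = 0 := by omega
      obtain rfl : m = 0 := by simpa using hm
      obtain rfl : n = e₀ + 1 := by omega
      have h : Sim X g := (sim_padded X Z).symm.trans hsim
      rw [Fin.fin_one_eq_zero i, Fin.cons_zero]
      exact ⟨h.cyc hX, h.charpoly_eq⟩
    · intro hr hall
      obtain rfl : r = 1 := by omega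
      obtain ⟨hc, hχ⟩ := hone rfl 0
      have h1 := hall 1
      rw [show (1 : Fin 2) = Fin.succ 0 from rfl, Fin.cons_succ] at h1
      have h0 := hall 0
      rw [Fin.cons_zero] at h0
      subst h0
      obtain rfl : m = 2 := by rw [Fin.sum_univ_one, h1] at hm; omega
      refine ⟨X, Z, 0, 1, by decide, hX, hc, by simp, ?_, hsim⟩
      rw [show (1 : Fin 2) = Fin.succ 0 from rfl, Fin.cons_succ]
      exact hχ
    · intro hs hhs k hk
      rw [Fin.sum_cons] at hk
      subst hk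
      have h0 := hhs 0
      rw [Fin.cons_zero] at h0
      have htail : ∀ i : Fin r, (hs i.succ).Monic ∧ (hs i.succ).natDegree = e i ∧ (hs i.succ).eval 0 ≠ 0 :=
        fun i => by simpa using hhs i.succ
      have hres := layout_cons (hk0 := fun h => by subst h; simp) (show 1 ≤ e₀ by omega)
        (layout_single (show 1 ≤ e₀ by omega) hX hXd h0.1 h0.2.1 h0.2.2) (hlay _ htail _ rfl) hsim
      rwa [show Fin.cons (hs 0) (fun i => hs i.succ) = hs from Fin.cons_self_tail hs] at hres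

theorem quot_schur {ι κ : Type*} [Fintype ι] [DecidableEq ι] [Fintype κ] [DecidableEq κ] {p₁ p₂ : K[X]}
    {D P : Matrix ι ι K} {X T : Matrix ι κ K} {Y W : Matrix κ ι K} {Z G : Matrix κ κ K}
    (hinv : fromBlocks D X Y Z * fromBlocks P T W G = 1) (hD : D.det ≠ 0) (h1 : Quot p₁ D) (h2 : Pre p₂ G)
    (hco : IsCoprime p₁ p₂) : Quot (p₁ * p₂) (fromBlocks D X Y Z) := by
  have u : IsUnit D.det := isUnit_iff_ne_zero.2 hD
  rw [fromBlocks_multiply, ← fromBlocks_one] at hinv
  obtain ⟨-, e12, -, e22⟩ := fromBlocks_inj.1 hinv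
  have hT : T = -(D⁻¹ * (X * G)) := by
    have := congrArg (D⁻¹ * ·) e12
    simp only [Matrix.mul_add, ← Matrix.mul_assoc, Matrix.nonsing_inv_mul D u, Matrix.one_mul, Matrix.mul_zero] at this
    rw [Matrix.mul_assoc] at this
    exact eq_neg_of_add_eq_zero_left this
  have hS : (Z - Y * D⁻¹ * X) * G = 1 := by
    rw [← e22, hT, Matrix.sub_mul, Matrix.mul_neg]
    simp only [Matrix.mul_assoc]
    abel
  have h := h1.join (h2.inv hS) hco (Y * D⁻¹) (D⁻¹ * X)
  have e : fromBlocks 1 0 (Y * D⁻¹) 1 * fromBlocks D 0 0 (Z - Y * D⁻¹ * X) * fromBlocks 1 (D⁻¹ * X) 0 1 =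
      fromBlocks D X Y Z := by
    simp only [fromBlocks_multiply, Matrix.one_mul, Matrix.mul_one, Matrix.zero_mul, Matrix.mul_zero, add_zero, zero_add]
    congr 1
    · rw [Matrix.mul_nonsing_inv_cancel_left D X u]
    · rw [Matrix.nonsing_inv_mul_cancel_right D Y u]
    · rw [Matrix.nonsing_inv_mul_cancel_right D Y u, ← Matrix.mul_assoc, add_sub_cancel]
  rwa [e] at h

/-- The factorisation along a layout with a scalar part and a coupling. -/
theorem quot_layout {k r a m : ℕ} {p₁ p₂ : K[X]} {D P : Matrix (Fin k) (Fin k) K}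
    {X T : Matrix (Fin k) (Fin r) K} {Y W : Matrix (Fin r) (Fin k) K} {Z G : Matrix (Fin r) (Fin r) K} {c ν : K}
    {M : Matrix (Fin m) (Fin m) K}
    (hinv : fromBlocks D X Y Z * fromBlocks P T W G = 1) (hcν : c * ν = 1)
    (hsim : Sim (fromBlocks (fromBlocks D X Y Z) 0 0 (c • (1 : Matrix (Fin a) (Fin a) K))) M) (hm : k + (r + a) = m)
    (hD : D.det ≠ 0) (w : Matrix (Fin a) (Fin k) K) (h1 : Quot p₁ D)
    (h2 : Pre p₂ (fromBlocks G 0 (-(w * T)) (ν • (1 : Matrix (Fin a) (Fin a) K))))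
    (hco : IsCoprime p₁ p₂) : Quot (p₁ * p₂) M := by
  set c1 : Matrix (Fin a) (Fin a) K := c • 1
  set n1 : Matrix (Fin a) (Fin a) K := ν • 1
  have hcn : c1 * n1 = 1 := by simp [c1, n1, smul_smul, mul_comm, hcν]
  let M0 : Matrix (Fin k ⊕ (Fin r ⊕ Fin a)) (Fin k ⊕ (Fin r ⊕ Fin a)) K :=
    fromBlocks D (Matrix.fromCols X 0) (Matrix.fromRows Y 0) (fromBlocks Z 0 0 c1)
  let N0 : Matrix (Fin k ⊕ (Fin r ⊕ Fin a)) (Fin k ⊕ (Fin r ⊕ Fin a)) K :=
    fromBlocks P (Matrix.fromCols T 0) (Matrix.fromRows W 0) (fromBlocks G 0 0 n1)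
  let S : Matrix (Fin k ⊕ (Fin r ⊕ Fin a)) (Fin k ⊕ (Fin r ⊕ Fin a)) K :=
    fromBlocks 1 0 (Matrix.fromRows 0 w) 1
  let S' : Matrix (Fin k ⊕ (Fin r ⊕ Fin a)) (Fin k ⊕ (Fin r ⊕ Fin a)) K :=
    fromBlocks 1 0 (-(Matrix.fromRows 0 w)) 1
  have hSS : S * S' = 1 := by
    simp only [S, S', fromBlocks_multiply, Matrix.one_mul, Matrix.mul_one, Matrix.zero_mul, Matrix.mul_zero,
      add_zero, zero_add, add_neg_cancel, fromBlocks_one]
  have hS'S : S' * S = 1 := by
    simp only [S, S', fromBlocks_multiply, Matrix.one_mul, Matrix.mul_one, Matrix.zero_mul, Matrix.mul_zero,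
      add_zero, zero_add, neg_add_cancel, fromBlocks_one]
  have hM0 : M0 = Matrix.reindex (Equiv.sumAssoc _ _ _) (Equiv.sumAssoc _ _ _)
      (fromBlocks (fromBlocks D X Y Z) 0 0 c1) := by
    ext (i | i | i) (j | j | j) <;> simp [M0]
  have hN0 : N0 = Matrix.reindex (Equiv.sumAssoc _ _ _) (Equiv.sumAssoc _ _ _)
      (fromBlocks (fromBlocks P T W G) 0 0 n1) := by
    ext (i | i | i) (j | j | j) <;> simp [N0]
  have h0 : M0 * N0 = 1 := by
    rw [hM0, hN0, Matrix.reindex_apply, Matrix.reindex_apply, submatrix_mul_equiv, fromBlocks_multiply]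
    simp [hinv, hcn, fromBlocks_one]
  set M1 := S' * M0 * S
  set N1 := S' * N0 * S
  have h11 : M1 * N1 = 1 := by
    calc M1 * N1 = S' * M0 * (S * S') * N0 * S := by simp only [M1, N1, Matrix.mul_assoc]
      _ = S' * (M0 * N0) * S := by rw [hSS]; simp only [Matrix.mul_one, Matrix.mul_assoc]
      _ = 1 := by rw [h0, Matrix.mul_one, hS'S]
  have e11 : M1.toBlocks₁₁ = D := by
    simp [M1, S, S', M0, fromBlocks_multiply, fromCols_mul_fromRows]
  have f22 : N1.toBlocks₂₂ = fromBlocks G 0 (-(w * T)) n1 := by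
    simp only [N1, S, S', N0, fromBlocks_multiply, toBlocks_fromBlocks₂₂, Matrix.one_mul, Matrix.mul_one,
      Matrix.zero_mul, Matrix.mul_zero, add_zero, zero_add, Matrix.neg_mul, fromRows_mul_fromCols, Matrix.zero_mul]
    ext (i | i) (j | j) <;> simp
  rw [← fromBlocks_toBlocks M1, ← fromBlocks_toBlocks N1, e11, f22] at h11
  have hq := quot_schur h11 hD h1 h2 hco
  rw [← e11, fromBlocks_toBlocks] at hq
  refine hq.of_sim ((Equiv.sumCongr (Equiv.refl _) finSumFinEquiv).trans (finSumFinEquiv.trans (finCongr hm))) ?_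
  refine Sim.trans (B := M0) ⟨S, S', hSS, hS'S, ?_⟩ ?_
  · show M0 = S * (S' * M0 * S) * S'
    rw [← Matrix.mul_assoc, ← Matrix.mul_assoc, hSS, Matrix.one_mul, Matrix.mul_assoc, hSS, Matrix.mul_one]
  · rw [hM0]
    exact (LevCover.sim_reindex _ _).symm.trans hsim

end CfsgLib.OreGL
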