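import Cfsg.Agent.OreGL.ThreeSpecial
import Cfsg.Agent.OreGL.Stacks

/-!
# Twisted factorisation over three elements
-/

set_option autoImplicit false
set_option linter.unusedSectionVars false
set_option linter.unusedSimpArgs false

namespace CfsgLib.OreGL

open Matrix Polynomial
open CfsgLib.LevCover (Sim Hess Cyc Stack)

variable {K : Type*} [Field K] [Fintype K]

theorem splitP_lin (b : K) : SplitP (X - C b) := ⟨1, fun _ => b, by simp⟩

theorem splitP_pow {p : K[X]} (hp : SplitP p) (n : ℕ) : SplitP (p ^ n) := by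
  have := SplitP.prod (Finset.univ : Finset (Fin n)) (fun _ => p) fun _ _ => hp
  simpa using this

theorem factors_of_pair (hq : Fintype.card K = 3) {k s m : ℕ} {p₁ p₂ : K[X]} (hp : Pair k s p₁ p₂) (hm : k + s = m)
    {M : Matrix (Fin m) (Fin m) K} (h : Quot (p₁ * p₂) M) : Factors M := by
  refine h.factors (two_ne_three hq) hp.good ?_
  rw [Fintype.card_fin, ← hm]
  exact ⟨1, by rw [hp.sq, one_mul]⟩

/-- The identity. -/
theorem factors_id (hq : Fintype.card K = 3) {m : ℕ} (hm : 3 ≤ m) : Factors (1 : Matrix (Fin m) (Fin m) K) := by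
  obtain ⟨n, rfl⟩ : ∃ n, m = (n + 1) + (0 + 1) := ⟨m - 2, by omega⟩
  obtain ⟨p₁, p₂, hp⟩ := exists_pair (K := K) hq (k := n + 1) (s := 0 + 1) (by omega) le_rfl (by omega)
  refine factors_of_pair hq hp rfl ?_
  have h := (hp.quot _ (pre_one_of_monic hp.m1 hp.d1)).join (pre_one_of_monic hp.m2 hp.d2) hp.cop 0 0
  simp only [fromBlocks_one, Matrix.one_mul, Matrix.mul_one] at h
  refine h.of_sim finSumFinEquiv (LevCover.Sim.of_reindex finSumFinEquiv ?_)
  simp only [Matrix.reindex_apply]
  exact Matrix.submatrix_one_equiv _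

/-- One pair along a layout. -/
theorem factors_along (hq : Fintype.card K = 3) {k r a m n : ℕ} {p₁ p₂ : K[X]} (hp : Pair k (r + a) p₁ p₂)
    (hm : k + (r + a) = m) {e : Fin r → ℕ} (hk : k = ∑ i, e i) (he : ∀ i, 1 ≤ e i) (hr : 1 ≤ r)
    {f : Fin r → K[X]} {g : Matrix (Fin n) (Fin n) K}
    (hlay : ∀ hs : Fin r → K[X], (∀ i, (hs i).Monic ∧ (hs i).natDegree = e i ∧ (hs i).eval 0 ≠ 0) →
        ∀ k, k = ∑ i, e i → Layout (k := k) hs f g)
    {c : K} (hc : c ≠ 0) {M : Matrix (Fin m) (Fin m) K}
    (hsim : Sim (fromBlocks g 0 0 (c • (1 : Matrix (Fin a) (Fin a) K))) M)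
    (v : Fin r → K) (hv : ∀ i, v i ≠ 0) (hf : ∀ i, (-1 : K) ^ (f i).natDegree * (f i).eval 0 ≠ 0)
    (hprod : ∏ i, v i * ((-1 : K) ^ (f i).natDegree * (f i).eval 0) = 1)
    (h2k : k = 2 → k ≠ r + a ∧ ∀ i, v i * ((-1 : K) ^ (f i).natDegree * (f i).eval 0) = (-1) ^ e i)
    (hdone : ∀ (G : Matrix (Fin r) (Fin r) K) (T : Matrix (Fin k) (Fin r) K),
        (∀ i j : Fin r, i < j → G i j = 0) → (∀ i j : Fin r, i.val = j.val + 1 → G i j ≠ 0) →
        (∀ i, G i i = v i) → (r = 1 → ∀ (i : Fin k) (j : Fin r), i.val + 1 = k → T i j ≠ 0) →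
        Done (a := a) p₂ c G T) : Factors M := by
  have h2 : (2 : K) ≠ 0 := two_ne_three hq
  refine factors_of_pair hq hp hm ?_
  set t : Fin r → K := fun i => v i * ((-1 : K) ^ (f i).natDegree * (f i).eval 0) with ht
  have ht0 : ∀ i, t i ≠ 0 := fun i => mul_ne_zero (hv i) (hf i)
  let hs : Fin r → K[X] := fun i =>
    if k = 2 then (X - C (-1)) ^ e i else (X - C 1) ^ (e i - 1) * (X - C (t i))
  have hsd : ∀ i, (hs i).Monic ∧ (hs i).natDegree = e i ∧ (hs i).eval 0 ≠ 0 ∧
      (-1 : K) ^ (hs i).natDegree * (hs i).eval 0 = t i ∧ SplitP (hs i) := by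
    intro i
    by_cases h : k = 2
    · have hd : ((X - C (-1 : K)) ^ e i).natDegree = e i := by
        rw [natDegree_pow, natDegree_X_sub_C, mul_one]
      simp only [hs, if_pos h, hd]
      refine ⟨(monic_X_sub_C _).pow _, trivial, by simp, ?_, splitP_pow (splitP_lin _) _⟩
      rw [ht]
      simp only [(h2k h).2 i]
      simp
    · have hd : ((X - C (1 : K)) ^ (e i - 1) * (X - C (t i))).natDegree = e i := by
        rw [Monic.natDegree_mul ((monic_X_sub_C _).pow _) (monic_X_sub_C _), natDegree_pow, natDegree_X_sub_C,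
          natDegree_X_sub_C, mul_one]
        have := he i
        omega
      simp only [hs, if_neg h, hd]
      refine ⟨((monic_X_sub_C _).pow _).mul (monic_X_sub_C _), trivial, ?_, ?_,
        (splitP_pow (splitP_lin _) _).mul (splitP_lin _)⟩
      · simp [ht0 i]
      · obtain ⟨e', hee⟩ : ∃ e', e i = e' + 1 := ⟨e i - 1, by have := he i; omega⟩
        rw [hee, Nat.add_sub_cancel]
        simp only [eval_mul, eval_pow, eval_sub, eval_X, eval_C, zero_sub, pow_succ]
        rw [show ((-1 : K) ^ e' * -1) * ((-1) ^ e' * -t i) = ((-1 : K) * -1) ^ e' * t i by rw [mul_pow]; ring]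
        norm_num
  obtain ⟨D, X', Y, Z, P, T, W, G, hlsim, hinv, hD, hDχ, hl, hsub, hdg, -, hT⟩ :=
    hlay hs (fun i => ⟨(hsd i).1, (hsd i).2.1, (hsd i).2.2.1⟩) k hk
  have hdetD : D.det = 1 := by
    rw [Matrix.det_eq_sign_charpoly_coeff, hDχ, coeff_zero_eq_eval_zero, eval_prod, Fintype.card_fin, hk,
      ← Finset.prod_pow_eq_pow_sum, ← Finset.prod_mul_distrib]
    refine (Finset.prod_congr rfl fun i _ => ?_).trans hprod
    rw [← (hsd i).2.1]
    exact (hsd i).2.2.2.1
  have hGv : ∀ i, G i i = v i := fun i => by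
    have := hdg i
    rw [(hsd i).2.2.2.1, ht] at this
    exact mul_right_cancel₀ (hf i) this
  have hk1 : 1 ≤ k := by
    rw [hk]
    exact le_trans (he ⟨0, hr⟩) (Finset.single_le_sum (fun i _ => Nat.zero_le (e i)) (Finset.mem_univ _))
  have h1 : Quot p₁ D := by
    refine hp.quot _ (pre_corner h2 hD ?_ hdetD hp.m1 hp.d1 hp.n1 ?_)
    · rw [hDχ]
      exact SplitP.prod _ _ fun i _ => (hsd i).2.2.2.2
    · by_cases h : k = 2
      · refine Or.inr (Or.inr ⟨h, ?_, ?_⟩)
        · rw [hDχ, eval_prod, Finset.prod_ne_zero_iff]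
          intro i _
          simp only [hs, if_pos h, eval_pow, eval_sub, eval_X, eval_C, sub_neg_eq_add]
          exact pow_ne_zero _ (by norm_num [h2])
        · obtain ⟨j, hj⟩ := hp.odd1 (by omega) (h2k h).1
          have : 2 * j + 1 ≤ 2 := (le_natDegree_of_ne_zero hj).trans (by rw [hp.d1, h])
          obtain rfl : j = 0 := by omega
          simpa using hj
      · omega
  obtain ⟨w, hw⟩ := hdone G T hl hsub hGv hT
  exact quot_layout hinv (mul_self_three hq hc)
    ((LevCover.sim_blocks hlsim (Sim.refl _)).trans hsim) hm (by rw [hdetD]; exact one_ne_zero) w h1 hw hp.cop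

/-- Matrices of determinant one, trivial or not scalar, over three elements. -/
theorem factors_three (hq : Fintype.card K = 3) {m : ℕ} (hm : 3 ≤ m) {M : Matrix (Fin m) (Fin m) K} (hdet : M.det = 1)
    (hM : M = 1 ∨ ∀ c : K, M ≠ c • 1) : Factors M := by
  rcases hM with rfl | hM
  · exact factors_id hq hm
  have h2 : (2 : K) ≠ 0 := two_ne_three hq
  obtain ⟨d, m', a, X₀, Z₀, c, f₂, hd, hn, hc, hX, hsim, hev, hf2, hst⟩ :=
    LevCover.exists_stack m M (by rw [hdet]; exact one_ne_zero) hM
  have hstack := Stack.cons X₀ Z₀ M hd hn hX ⟨dvd_rfl, hev, hf2⟩ hst hsim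
  obtain ⟨n, g, hn', hg, hgsim⟩ := Stack.split (a' := 0) (Nat.zero_add a) hstack
  have hgd := LevCover.det_blocks_ne (hgsim.symm.det_ne (by rw [hdet]; exact one_ne_zero))
  obtain ⟨r, e, f, hnr, he, hf, hgdet, hone, htwo, hlay⟩ := exists_layouts hg hgd.1
  -- the determinant
  have hcc := mul_self_three hq hc
  have hdet' : g.det * c ^ a = 1 := by
    have : M.det = (fromBlocks g 0 0 (c • (1 : Matrix (Fin a) (Fin a) K))).det := by
      rw [← det_reindex_self (finSumFinEquiv.trans (finCongr hn')) (fromBlocks g 0 0 _)]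
      exact ((LevCover.sim_reindex _ _).symm.trans hgsim).det_eq
    rw [← hdet, this, det_fromBlocks_zero₂₁, det_smul, det_one, mul_one, Fintype.card_fin]
  set δ : Fin r → K := fun i => (-1 : K) ^ (f i).natDegree * (f i).eval 0 with hδ
  have hδ0 : ∀ i, δ i ≠ 0 := fun i =>
    (Finset.prod_ne_zero_iff.1 (by rw [← hgdet]; exact hgd.1)) i (Finset.mem_univ i)
  have hδprod : ∏ i, δ i = c ^ a := by
    rw [← hgdet]
    linear_combination (c ^ a) * hdet' - g.det * mul_self_three hq (pow_ne_zero a hc)
  have hr : 1 ≤ r := by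
    by_contra h
    obtain rfl : r = 0 := by omega
    obtain rfl : n = 0 := by simpa using hnr
    obtain rfl : a = m := by omega
    refine hM c ?_
    have hs : Sim (c • (1 : Matrix (Fin a) (Fin a) K)) M :=
      (((LevCover.sim_comm _ _).trans (sim_padded _ _)).symm).trans hgsim
    obtain ⟨P, P', h1, -, h3⟩ := hs
    rw [h3, Matrix.mul_smul, Matrix.mul_one, Matrix.smul_mul, h1]
  set k := ∑ i, e i with hk
  have hrk : r ≤ k := by
    have := Finset.sum_le_sum fun i (_ : i ∈ (Finset.univ : Finset (Fin r))) => he i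
    simpa [hk] using this
  have hkm : k + (r + a) = m := by omega
  by_cases hex : k = r + a ∧ k ≤ 2
  · -- dimension four
    obtain rfl : m = 4 := by omega
    rcases (show r = 1 ∨ r = 2 by omega) with rfl | rfl
    · obtain rfl : a = 1 := by omega
      obtain rfl : n = 3 := by omega
      obtain ⟨hcyc, hχ⟩ := hone rfl 0
      refine factors_cubic hq hcyc (by rw [hχ]; exact (hf 0).1.2.1 one_pos) ?_ hgsim
      simpa using hdet'
    · obtain rfl : a = 0 := by omega
      obtain rfl : n = 4 := by omega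
      have he1 : ∀ i, e i = 1 := fun i => by
        have h1 := he 0
        have h1' := he 1
        have h : e 0 + e 1 = k := by rw [hk, Fin.sum_univ_two]
        fin_cases i <;> simp <;> omega
      obtain ⟨A, B, i, j, -, hA, hB, hAχ, hBχ, hAB⟩ := htwo rfl he1
      refine factors_quads hq hA hB ?_ ?_ (hAB.trans ((sim_padded g _).symm.trans hgsim))
      · rw [hAχ, hBχ, (hf i).1.2.2 (by rw [(hf i).2.2, he1]), (hf j).1.2.2 (by rw [(hf j).2.2, he1])]
      · rw [Matrix.det_eq_sign_charpoly_coeff, hAχ, coeff_zero_eq_eval_zero, Fintype.card_fin]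
        have := hδ0 i
        simp only [hδ] at this
        rwa [show (f i).natDegree = 2 by rw [(hf i).2.2, he1]] at this
  obtain ⟨p₁, p₂, hp⟩ := exists_pair (K := K) hq (k := k) (s := r + a) (by omega) (by omega) hex
  by_cases hspec : k = 2 ∧ r = 2
  · -- two quadratic pieces
    obtain ⟨hk2, rfl⟩ := hspec
    have ha : 1 ≤ a := by omega
    have he1 : ∀ i, e i = 1 := fun i => by
      have h1 := he 0
      have h1' := he 1
      have h : e 0 + e 1 = k := by rw [hk, Fin.sum_univ_two]
      fin_cases i <;> simp <;> omega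
    have hff : ∀ i, f i = f₂ := fun i => (hf i).1.2.2 (by rw [(hf i).2.2, he1])
    set d₀ := δ 0 with hd₀
    have hδd : ∀ i, δ i = d₀ := fun i => by rw [hd₀, hδ]; simp only [hff]
    have hd0 : d₀ ≠ 0 := hδ0 0
    have hdd := mul_self_three hq hd0
    have hca : c ^ a = 1 := by rw [← hδprod, Fin.prod_univ_two, hδd, hδd 1, hdd]
    by_cases hdc : d₀ = -c
    · rcases unit_three hq hc with rfl | rfl
      · -- two distinct eigenvalues
        obtain ⟨A, B, i, j, -, hA, hB, hAχ, hBχ, hAB⟩ := htwo rfl he1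
        have hfi : ∀ i, f i = (X - C 1) * (X - C (-1)) := by
          intro i
          have hdeg : (f i).natDegree = 2 := by rw [(hf i).2.2, he1]
          have h0 : (f i).coeff 0 = -1 := by
            have := hδd i
            simp only [hδ, hdc] at this
            rw [hdeg, neg_one_sq, one_mul, ← coeff_zero_eq_eval_zero] at this
            exact this
          have hlead : (f i).coeff 2 = 1 := hdeg ▸ (hf i).2.1.coeff_natDegree
          have h1 : (f i).coeff 1 = 0 := by
            have hroot := (hf i).1.2.1 (by omega)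
            rw [eval_eq_sum_range, hdeg] at hroot
            simp only [Finset.sum_range_succ, Finset.sum_range_zero, one_pow, mul_one, h0, hlead] at hroot
            linear_combination hroot
          refine Polynomial.ext fun l => ?_
          rw [show ((X : K[X]) - C 1) * (X - C (-1)) = X ^ 2 - C 1 by simp only [map_neg, map_one]; ring]
          rcases l with _ | _ | _ | l
          · simp [h0]
          · simp [h1, coeff_one]
          · simp [hlead, coeff_one]
          · rw [coeff_eq_zero_of_natDegree_lt (by omega)]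
            simp [coeff_X_pow, coeff_one]
        obtain rfl : n = 2 + 2 := by omega
        exact factors_signs hq ha (by omega) hA hB (hAχ.trans (hfi i)) (hBχ.trans (hfi j))
          ((LevCover.sim_blocks hAB (Sim.refl _)).trans hgsim)
      · -- minus a transvection
        obtain ⟨b, hb⟩ : ∃ b, a = 2 * b := by
          rcases Nat.even_or_odd a with ⟨b, hb⟩ | h
          · exact ⟨b, by omega⟩
          · rw [h.neg_one_pow] at hca
            exact absurd (show (2 : K) = 0 by linear_combination -hca) h2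
        have hd1 : d₀ = 1 := by rw [hdc, neg_neg]
        refine factors_along hq hp hkm hk he (by omega) hlay hc hgsim (fun _ => -1)
          (fun _ => neg_ne_zero.2 one_ne_zero) hδ0 ?_ (fun _ => ⟨by omega, fun i => ?_⟩) (fun G T hl hs hv _ => ?_)
        · show ∏ i, -1 * δ i = 1
          rw [Fin.prod_univ_two, hδd, hδd 1, hd1]
          ring
        · show -1 * δ i = _
          rw [hδd, hd1, he1, mul_one, pow_one]
        refine ⟨0, ?_⟩
        rw [Matrix.zero_mul, neg_zero]
        let u : Fin 2 ⊕ Fin a → K := Sum.elim (fun i => if i.val = 0 then 0 else -G 1 0) fun _ => 0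
        let φ : Fin 2 ⊕ Fin a → K := Sum.elim (fun i => if i.val = 0 then 1 else 0) fun _ => 0
        have h := pre_pseudo_index (k := 2 * b) (finSumFinEquiv.trans (finCongr (by omega))) h2 (even_two_mul b) hp.m2
          (by rw [hp.d2]; omega) hp.n2 (hp.odd2 (by omega)) (w := u) (φ := φ)
          (fun h => hs 1 0 rfl (by simpa [u] using congrFun h (Sum.inl 1)))
          (fun h => by simpa [φ] using congrFun h (Sum.inl 0))
          (by simp [u, φ, dotProduct, Fintype.sum_sum_type, Fin.sum_univ_two])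
        convert h using 1
        ext (i | i) (j | j)
        · fin_cases i <;> fin_cases j <;> simp [hv, u, φ, vecMulVec_apply, hl 0 1 (by decide)]
        · simp [u, φ, vecMulVec_apply]
        · simp [u, φ, vecMulVec_apply]
        · by_cases hij : i = j <;> simp [u, φ, Matrix.one_apply, vecMulVec_apply, hij]
    · have hcd : c = d₀ := by
        rcases unit_three hq hd0 with h | h <;> rcases unit_three hq hc with h' | h' <;> rw [h, h'] at hdc ⊢ <;>
          simp at hdc ⊢
      refine factors_along hq hp hkm hk he (by omega) hlay hc hgsim (fun _ => -d₀)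
        (fun _ => neg_ne_zero.2 hd0) hδ0 ?_ (fun _ => ⟨by omega, fun i => ?_⟩) (fun G T hl hs hv _ => ?_)
      · show ∏ i, -d₀ * δ i = 1
        rw [Fin.prod_univ_two, hδd, hδd 1]
        linear_combination (d₀ * d₀ + 1) * hdd
      · show -d₀ * δ i = _
        rw [hδd, he1, pow_one, neg_mul, hdd]
      · refine done_of_pre (pre_avoid (by omega) ha hl hs hc (neg_ne_zero.2 hd0) ?_ hv ?_ hp.m2 hp.d2 hp.n2)
        · rw [hcd]
          exact fun h => mul_ne_zero h2 hd0 (by linear_combination h)
        · rw [hca, one_mul, neg_pow, neg_one_sq, one_mul, sq, hdd]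
  obtain ⟨v, hv, hvp, hdone⟩ := exists_values hq hr a hc hp.m2 hp.d2 hp.n2 hp.odd2
  refine factors_along hq hp hkm hk he hr hlay hc hgsim v hv hδ0 ?_ (fun h => ⟨?_, fun i => ?_⟩)
    (fun G T hl hs hd hT => hdone k G T (by omega) hl hs hd hT)
  · show ∏ i, v i * δ i = 1
    rw [Finset.prod_mul_distrib, hvp, hδprod, mul_self_three hq (pow_ne_zero a hc)]
  · omega
  · obtain rfl : r = 1 := by omega
    obtain rfl := Subsingleton.elim i 0
    rw [Fin.prod_univ_one] at hvp hδprod
    have he2 : e 0 = 2 := by rw [← h, hk, Fin.sum_univ_one]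
    show v 0 * δ 0 = _
    rw [hvp, hδprod, he2, neg_one_sq, mul_self_three hq (pow_ne_zero a hc)]

end CfsgLib.OreGL
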