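import Cfsg.Agent.OreGL.Large
import Cfsg.Agent.OreGL.Five
import Cfsg.Agent.OreGL.Three

/-!
# Twisted factorisation of determinant one matrices
-/

set_option autoImplicit false

namespace CfsgLib.OreGL

variable {K : Type*} [Field K] [Fintype K]

/-- A determinant one matrix that is trivial or not scalar multiplies some good matrix into its class. -/
theorem factors_main (hodd : Odd (Fintype.card K)) {m : ℕ} (hm : 3 ≤ m) (M : Matrix (Fin m) (Fin m) K)
    (hdet : M.det = 1) (hM : M = 1 ∨ ∀ c : K, M ≠ c • 1) : Factors M := by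
  have h2 : (2 : K) ≠ 0 := by
    intro h
    haveI : CharP K 2 := CharTwo.of_one_ne_zero_of_two_eq_zero one_ne_zero h
    exact (Nat.not_even_iff_odd.2 hodd) (Nat.even_iff.2 (FiniteField.even_card_of_char_two (ringChar.eq K 2)))
  have h1 := Fintype.one_lt_card (α := K)
  obtain ⟨j, hj⟩ := hodd
  rcases (show Fintype.card K = 3 ∨ Fintype.card K = 5 ∨ 7 ≤ Fintype.card K by omega) with h | h | h
  · exact factors_three h hm hdet hM
  · rcases Nat.even_or_odd m with he | ho
    · exact factors_five h (by rcases he with ⟨i, hi⟩; omega) he M hdet hM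
    · exact factors_large h2 (by omega) (Or.inr ⟨h, ho⟩) M hdet hM
  · exact factors_large h2 (by omega) (Or.inl h) M hdet hM

end CfsgLib.OreGL
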