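import Cfsg.Agent.OreGL.ThreePoly

/-!
# Pairs of polynomials for the two halves over three elements
-/

set_option autoImplicit false
set_option linter.unusedSectionVars false
set_option linter.unusedSimpArgs false

namespace CfsgLib.OreGL

open Matrix Polynomial
open CfsgLib.LevCover (Sim Surj Cyc)

variable {K : Type*} [Field K] [Fintype K]

theorem Part.eval_ne {E : Type*} [Field E] [Algebra K E] {n : ℕ} {f : K[X]} {x : E} (h : Part E n f x)
    (hn : 2 ≤ n) (c : K) : f.eval c ≠ 0 := by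
  intro h0
  exact h.irr.not_isRoot_of_natDegree_ne_one (by rw [h.deg]; omega) h0

theorem Part.quot {E : Type*} [Field E] [Algebra K E] {n : ℕ} {f : K[X]} {x : E} (h : Part E n f x)
    {M : Matrix (Fin n) (Fin n) K} (hM : Pre f M) : Quot f M := by
  obtain ⟨R0, h0, hS⟩ := h.surj
  obtain ⟨R, hR, hsim⟩ := hM
  have hn : 0 < n := h.deg ▸ h.irr.natDegree_pos
  have hc : ∀ A : Matrix (Fin n) (Fin n) K, A.charpoly = f → Cyc A := fun A hA =>
    ⟨_, LevCover.cycV_of_krylov (LevCover.cycAt_of_irreducible (c := Pi.single ⟨0, hn⟩ 1) (by rw [hA]; exact h.irr)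
      (fun e => by simpa using congrFun e ⟨0, hn⟩))⟩
  exact ⟨R, hR, surj_sim (Equiv.refl _) (LevCover.sim_of_cyc (hc R0 h0) (hc R hR) (h0.trans hR.symm)) hS, hsim⟩

theorem coprime_swap {E : Type*} [Field E] [Algebra K E] {p q : K[X]} (hp : Irreducible p) {x : E}
    (hx : aeval x p = 0) (hx0 : x ≠ 0) (h : IsCoprime q p.reverse) : IsCoprime p q.reverse := by
  refine coprime_reverse_of_root hp hx hx0 fun h0 => ?_
  obtain ⟨a, b, hab⟩ := h
  haveI : Invertible x := invertibleOfNonzero hx0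
  have h1 : aeval x⁻¹ p.reverse = 0 := by
    have := (eval₂_reverse_eq_zero_iff (algebraMap K E) x p).2 hx
    rwa [invOf_eq_inv] at this
  have h2 := congrArg (aeval x⁻¹) hab
  rw [map_add, map_mul, map_mul, h0, h1, mul_zero, mul_zero, add_zero, map_one] at h2
  exact zero_ne_one h2

theorem coprime_of_deg_lt {p g : K[X]} (hp : Irreducible p) (hg : g ≠ 0) (h : g.natDegree < p.natDegree) :
    IsCoprime p g :=
  (hp.coprime_iff_not_dvd).2 fun hd => absurd (natDegree_le_of_dvd hd hg) (by omega)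

theorem coprime_neg_one {E : Type*} [Field E] [Algebra K E] {n : ℕ} {f : K[X]} {x : E} (h : Part E n f x)
    (hn : 2 ≤ n) : IsCoprime (X + 1) f ∧ IsCoprime (X + 1) f.reverse := by
  rw [show (X + 1 : K[X]) = X - C (-1) by simp]
  refine ⟨coprime_linear (h.eval_ne hn _), coprime_linear fun h0 => h.eval_ne hn (-1) ?_⟩
  haveI : Invertible (-1 : K) := invertibleOfNonzero (neg_ne_zero.2 one_ne_zero)
  have h2 := eval₂_reverse_eq_zero_iff (RingHom.id K) (-1) f
  rw [invOf_eq_inv, inv_neg, inv_one] at h2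
  exact h2.1 h0

/-- The data for the two halves. -/
structure Pair (k s : ℕ) (p₁ p₂ : K[X]) : Prop where
  m1 : p₁.Monic
  m2 : p₂.Monic
  d1 : p₁.natDegree = k
  d2 : p₂.natDegree = s
  n1 : p₁.eval 0 ≠ 0
  n2 : p₂.eval 0 ≠ 0
  cop : IsCoprime p₁ p₂
  good : GoodPoly (p₁ * p₂)
  sq : (-1) ^ (k + s) * (p₁ * p₂).eval 0 = 1
  quot : ∀ D : Matrix (Fin k) (Fin k) K, Pre p₁ D → Quot p₁ D
  odd1 : 2 ≤ k → k ≠ s → ∃ j, p₁.coeff (2 * j + 1) ≠ 0
  odd2 : 2 ≤ s → ∃ j, p₂.coeff (2 * j + 1) ≠ 0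

theorem exists_pair (hq : Fintype.card K = 3) {k s : ℕ} (hk : 1 ≤ k) (hs : 1 ≤ s) (hne : ¬ (k = s ∧ k ≤ 2)) :
    ∃ p₁ p₂ : K[X], Pair k s p₁ p₂ := by
  haveI : Fact (Nat.Prime 3) := ⟨Nat.prime_three⟩
  haveI : CharP K 3 := by
    obtain ⟨p, hp⟩ := CharP.exists K
    haveI : Fact p.Prime := ⟨CharP.char_is_prime K p⟩
    obtain ⟨j, -, hj⟩ := FiniteField.card K p
    rw [hq] at hj
    have hdvd : p ∣ 3 := by rw [hj]; exact dvd_pow_self p (PNat.pos j).ne'
    obtain rfl := (Nat.prime_dvd_prime_iff_eq (CharP.char_is_prime K p) Nat.prime_three).1 hdvd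
    exact hp
  haveI : NeZero k := ⟨by omega⟩
  haveI : NeZero s := ⟨by omega⟩
  have hX : (X + 1 : K[X]).natDegree = 1 := by compute_degree!
  have hXm : (X + 1 : K[X]).Monic := by monicity!
  rcases Nat.lt_or_ge k 2 with hk1 | hk2
  · obtain rfl : k = 1 := by omega
    obtain ⟨f, x, hf, hodd, -⟩ := exists_parts (F := K) (p := 3) (n := s) hq (by omega)
    have hs2 : 2 ≤ s := by omega
    obtain ⟨c1, c2⟩ := coprime_neg_one hf hs2
    refine ⟨X + 1, f, hXm, hf.monic, hX, hf.deg, by simp, hf.eval_ne hs2 0, c1, ⟨?_, ?_, f, Or.inr ⟨rfl, hf.eval_ne hs2 _⟩,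
      c2.mul_left hf.self⟩, ?_, ?_, fun h => absurd h (by omega), fun _ => hodd⟩
    · simpa using hf.eval_ne hs2 0
    · simp only [eval_mul, eval_add, eval_X, eval_one]
      refine mul_ne_zero (fun h => ?_) (hf.eval_ne hs2 1)
      have h3 : (3 : K) = 0 := by exact_mod_cast CharP.cast_eq_zero K 3
      exact one_ne_zero (α := K) (by linear_combination h3 - h)
    · simp only [eval_mul, eval_add, eval_X, eval_one, zero_add, one_mul]
      rw [pow_add, mul_assoc, hf.norm]; ring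
    · intro D hD
      obtain ⟨R, h1, h2⟩ := hD
      exact ⟨R, h1, surj_unique R, h2⟩
  obtain ⟨f, x, hf, hfo, hsec⟩ := exists_parts (F := K) (p := 3) (n := k) hq hk2
  rcases Nat.lt_or_ge s 2 with hs1 | hs2
  · obtain rfl : s = 1 := by omega
    obtain ⟨c1, c2⟩ := coprime_neg_one hf hk2
    refine ⟨f, X + 1, hf.monic, hXm, hf.deg, hX, hf.eval_ne hk2 0, by simp, c1.symm, ⟨?_, ?_, f,
      Or.inr ⟨mul_comm _ _, hf.eval_ne hk2 _⟩, ?_⟩, ?_, fun D => hf.quot, fun _ _ => hfo, fun h => absurd h (by omega)⟩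
    · simpa using hf.eval_ne hk2 0
    · simp only [eval_mul, eval_add, eval_X, eval_one]
      refine mul_ne_zero (hf.eval_ne hk2 1) (fun h => ?_)
      have h3 : (3 : K) = 0 := by exact_mod_cast CharP.cast_eq_zero K 3
      exact one_ne_zero (α := K) (by linear_combination h3 - h)
    · exact hf.self.mul_left c2
    · simp only [eval_mul, eval_add, eval_X, eval_one, zero_add, mul_one]
      rw [pow_succ, mul_assoc, mul_comm (-1 : K), ← mul_assoc, hf.norm]; ring
  -- both halves of degree at least two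
  have build : ∀ {E₁ E₂ : Type _} [Field E₁] [Algebra K E₁] [Field E₂] [Algebra K E₂] {f₁ f₂ : K[X]} {x₁ : E₁} {x₂ : E₂},
      Part E₁ k f₁ x₁ → Part E₂ s f₂ x₂ → IsCoprime f₁ f₂ → IsCoprime f₁ f₂.reverse → IsCoprime f₂ f₁.reverse →
      (k ≠ s → ∃ j, f₁.coeff (2 * j + 1) ≠ 0) → (∃ j, f₂.coeff (2 * j + 1) ≠ 0) → Pair k s f₁ f₂ := by
    intro E₁ E₂ _ _ _ _ f₁ f₂ x₁ x₂ h₁ h₂ hc c12 c21 o1 o2
    refine ⟨h₁.monic, h₂.monic, h₁.deg, h₂.deg, h₁.eval_ne hk2 0, h₂.eval_ne hs2 0, hc,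
      ⟨?_, ?_, _, Or.inl rfl, ?_⟩, ?_, fun D => h₁.quot, fun _ => o1, fun _ => o2⟩
    · rw [eval_mul]; exact mul_ne_zero (h₁.eval_ne hk2 0) (h₂.eval_ne hs2 0)
    · rw [eval_mul]; exact mul_ne_zero (h₁.eval_ne hk2 1) (h₂.eval_ne hs2 1)
    · rw [reverse_mul_of_domain]
      exact (h₁.self.mul_right c12).mul_left (c21.mul_right h₂.self)
    · rw [eval_mul, pow_add, mul_mul_mul_comm, h₁.norm, h₂.norm]; ring
  rcases eq_or_ne k s with rfl | hks
  · obtain ⟨g, y, hg, c1, c2, c3⟩ := hsec (by omega)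
    exact ⟨g, f, build hg hf c1 c2 c3 (fun h => absurd rfl h) hfo⟩
  obtain ⟨g, y, hg, hgo, -⟩ := exists_parts (F := K) (p := 3) (n := s) hq hs2
  refine ⟨f, g, build hf hg ?_ ?_ ?_ (fun _ => hfo) hgo⟩
  · rcases Nat.lt_or_ge s k with h | h
    · exact coprime_of_deg_lt hf.irr hg.monic.ne_zero (by rw [hf.deg, hg.deg]; omega)
    · exact (coprime_of_deg_lt hg.irr hf.monic.ne_zero (by rw [hf.deg, hg.deg]; omega)).symm
  all_goals
    have key : ∀ {E' E'' : Type _} [Field E'] [Algebra K E'] [Field E''] [Algebra K E''] {a b : ℕ} {u w : K[X]}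
        {x' : E'} {x'' : E''}, Part E' a u x' → Part E'' b w x'' → b ≠ a → IsCoprime u w.reverse := by
      intro E' E'' _ _ _ _ a b u w x' x'' hu hw hab
      rcases Nat.lt_or_ge b a with h | h
      · exact coprime_of_deg_lt hu.irr (fun h0 => hw.monic.ne_zero ((reverse_eq_zero).1 h0))
          (by rw [hu.deg]; exact lt_of_le_of_lt (reverse_natDegree_le w) (by rw [hw.deg]; exact h))
      · refine coprime_swap hu.irr hu.root hu.ne ?_
        exact coprime_of_deg_lt hw.irr (fun h0 => hu.monic.ne_zero ((reverse_eq_zero).1 h0))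
          (by rw [hw.deg]; exact lt_of_le_of_lt (reverse_natDegree_le u) (by rw [hu.deg]; omega))
  · exact key hf hg (Ne.symm hks)
  · exact key hg hf hks

end CfsgLib.OreGL
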