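import Cfsg.Agent.OreGL.Quot
import Cfsg.Agent.LevCover.Shapes

/-!
# A matrix as an upper Hessenberg block and a triangular inverse complement
-/

set_option autoImplicit false
set_option linter.unusedSectionVars false
set_option linter.unusedSimpArgs false

namespace CfsgLib.OreGL

open Matrix Polynomial
open CfsgLib.LevCover (Sim Hess Cyc Stack)

variable {K : Type*} [Field K]

/-- The blocks of `M`, with a Hessenberg corner `D` and lower triangular inverse complement `G`. -/
def Layout {n k r : ℕ} (hs f : Fin r → K[X]) (M : Matrix (Fin n) (Fin n) K) : Prop :=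
  ∃ (D : Matrix (Fin k) (Fin k) K) (X : Matrix (Fin k) (Fin r) K) (Y : Matrix (Fin r) (Fin k) K)
    (Z : Matrix (Fin r) (Fin r) K) (P : Matrix (Fin k) (Fin k) K) (T : Matrix (Fin k) (Fin r) K)
    (W : Matrix (Fin r) (Fin k) K) (G : Matrix (Fin r) (Fin r) K),
    Sim (fromBlocks D X Y Z) M ∧ fromBlocks D X Y Z * fromBlocks P T W G = 1 ∧
    Hess D ∧ D.charpoly = ∏ i, hs i ∧
    (∀ i j : Fin r, i < j → G i j = 0) ∧ (∀ i j : Fin r, i.val = j.val + 1 → G i j ≠ 0) ∧
    (∀ i : Fin r, G i i * ((-1) ^ ((f i).natDegree) * (f i).eval 0) = (-1) ^ ((hs i).natDegree) * (hs i).eval 0) ∧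
    (∀ (i : Fin k) (j : Fin r), j.val = 0 → X i j = if i.val = 0 then 1 else 0) ∧
    (r = 1 → ∀ (i : Fin k) (j : Fin r), i.val + 1 = k → T i j ≠ 0)

theorem hess_last_ne_zero {e : ℕ} {D : Matrix (Fin e) (Fin e) K} (hD : Hess D) {t : Fin e → K} {c : K}
    (h : ∀ i, (D *ᵥ t) i = if i.val = 0 then c else 0) (hc : c ≠ 0) :
    ∀ i : Fin e, i.val + 1 = e → t i ≠ 0 := by
  intro i hi h0
  apply hc
  have key : ∀ m : ℕ, ∀ j : Fin e, e ≤ j.val + m + 1 → t j = 0 := by
    intro m
    induction m with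
    | zero => intro j hj; rw [show j = i from Fin.ext (by omega)]; exact h0
    | succ m ih =>
      intro j hj
      by_cases hj' : e ≤ j.val + m + 1
      · exact ih j hj'
      have hlt : j.val + 1 < e := by omega
      have h1 := h ⟨j.val + 1, hlt⟩
      rw [Matrix.mulVec, dotProduct, Finset.sum_eq_single j, if_neg (by simp)] at h1
      · exact (mul_eq_zero.1 h1).resolve_left (hD.2 _ j rfl)
      · intro l _ hl
        rcases Nat.lt_or_ge l.val j.val with hlj | hlj
        · rw [hD.1 _ l (by simp only; omega), zero_mul]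
        · have : l.val ≠ j.val := fun e' => hl (Fin.ext e')
          rw [ih l (by omega), mul_zero]
      · exact fun hh => absurd (Finset.mem_univ _) hh
  have h1 := h ⟨0, by omega⟩
  rw [if_pos rfl, Matrix.mulVec, dotProduct,
    Finset.sum_eq_zero (fun l _ => by rw [key e l (by omega), mul_zero])] at h1
  exact h1.symm

theorem layout_single {e : ℕ} (he : 1 ≤ e) {B : Matrix (Fin (e + 1)) (Fin (e + 1)) K} (hB : Cyc B)
    (hBd : B.det ≠ 0) {h : K[X]} (hh : h.Monic) (hd : h.natDegree = e) (h0 : h.eval 0 ≠ 0) :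
    Layout (k := e) (r := 1) (fun _ => h) (fun _ => B.charpoly) B := by
  classical
  obtain ⟨j, rfl⟩ : ∃ j, e = j + 1 := ⟨e - 1, by omega⟩
  obtain ⟨H, hH, hHh, hc⟩ := LevCover.exists_hess j h hh hd
  obtain ⟨L, b, hL⟩ := LevCover.border_bij hc
  set x := L.symm ((fun i : Fin (j + 2) => B.charpoly.coeff i.val) - b)
  set M₁ := LevCover.border SourourProduct.e₀ H x with hM₁
  have hχ : M₁.charpoly = B.charpoly := LevCover.eq_of_coeffs (charpoly_monic B)
    (by rw [charpoly_natDegree_eq_dim, Fintype.card_fin])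
    (by rw [hM₁, hL, LinearEquiv.apply_symm_apply]; abel)
  have hsim : Sim M₁ B := LevCover.sim_of_cyc
    ⟨_, LevCover.cycV_of_krylov (LevCover.cycAt_blk hc _ _)⟩ hB hχ
  let σ : Fin (j + 1) ⊕ Fin 1 ≃ Fin (j + 2) :=
    (Equiv.sumComm _ _).trans (finSumFinEquiv.trans (finCongr (by omega)))
  set D := H with hD
  set X := (M₁.submatrix σ σ).toBlocks₁₂
  set Y := (M₁.submatrix σ σ).toBlocks₂₁
  set Z := (M₁.submatrix σ σ).toBlocks₂₂
  have hl : ∀ i : Fin (j + 1), σ (Sum.inl i) = i.succ := fun i => Fin.ext (by simp [σ, Nat.add_comm])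
  have hr : ∀ i : Fin 1, σ (Sum.inr i) = 0 := fun i => Fin.ext (by simp [σ])
  have hblock : M₁.submatrix σ σ = fromBlocks D X Y Z := by
    conv_lhs => rw [← fromBlocks_toBlocks (M₁.submatrix σ σ)]
    congr 1
    ext a c
    show M₁ (σ (Sum.inl a)) (σ (Sum.inl c)) = _
    rw [hl, hl]
    simp [hM₁, LevCover.border, hD]
  set N := (fromBlocks D X Y Z)⁻¹
  have hMd : (fromBlocks D X Y Z).det = B.det := by
    rw [← hblock, det_submatrix_equiv_self]
    exact (hsim.det_eq).symm
  have hMN : fromBlocks D X Y Z * N = 1 := Matrix.mul_nonsing_inv _ (isUnit_iff_ne_zero.2 (by rw [hMd]; exact hBd))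
  rw [← fromBlocks_toBlocks N] at hMN
  have hMN' := hMN
  rw [fromBlocks_multiply, ← fromBlocks_one] at hMN'
  obtain ⟨-, e12, -, e22⟩ := fromBlocks_inj.1 hMN'
  have hG : N.toBlocks₂₂ 0 0 * B.det = H.det := by
    have h1 : fromBlocks D X Y Z * fromBlocks 1 N.toBlocks₁₂ 0 N.toBlocks₂₂ = fromBlocks D 0 Y 1 := by
      rw [fromBlocks_multiply]
      simp [e12, e22]
    have h2 := congrArg det h1
    simp only [det_mul, det_fromBlocks_zero₂₁, det_fromBlocks_zero₁₂, det_one, mul_one, one_mul, det_fin_one, hMd] at h2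
    rw [mul_comm]; exact h2
  have hGne : N.toBlocks₂₂ 0 0 ≠ 0 := by
    intro h'
    rw [h', zero_mul, Matrix.det_eq_sign_charpoly_coeff, hH, coeff_zero_eq_eval_zero] at hG
    exact mul_ne_zero (pow_ne_zero _ (neg_ne_zero.2 one_ne_zero)) h0 hG.symm
  have hX : ∀ (a : Fin (j + 1)) (c : Fin 1), X a c = if a.val = 0 then 1 else 0 := by
    intro a c
    show M₁ (σ (Sum.inl a)) (σ (Sum.inr c)) = _
    rw [hl, hr]
    simp [hM₁, LevCover.border, SourourProduct.e₀, Pi.single_apply, Fin.ext_iff, -Fin.val_eq_zero_iff]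
  refine ⟨D, X, Y, Z, _, _, _, _, ?_, hMN, hHh, ?_, fun a c h => ?_, fun a c h => ?_, fun a => ?_,
    fun a c _ => hX a c, fun _ a c ha => ?_⟩
  · rw [← hblock]
    exact (LevCover.sim_reindex σ.symm M₁).symm.trans hsim
  · rw [Fin.prod_univ_one, hH]
  · exact absurd h (by omega)
  · exact absurd h (by omega)
  · rw [Fin.fin_one_eq_zero a, charpoly_natDegree_eq_dim, Fintype.card_fin, ← coeff_zero_eq_eval_zero,
      ← coeff_zero_eq_eval_zero]
    have e1 := Matrix.det_eq_sign_charpoly_coeff B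
    have e2 := Matrix.det_eq_sign_charpoly_coeff H
    rw [Fintype.card_fin] at e1 e2
    rw [hH] at e2
    rw [hd, ← e1, ← e2]
    exact hG
  · rw [Fin.fin_one_eq_zero c]
    refine hess_last_ne_zero hHh (t := fun l => N.toBlocks₁₂ l 0) (c := -N.toBlocks₂₂ 0 0) (fun l => ?_)
      (neg_ne_zero.2 hGne) a ha
    have := congrFun (congrFun e12 l) 0
    simp only [Matrix.add_apply, Matrix.zero_apply, Matrix.mul_apply, Fin.sum_univ_one, hX] at this
    show ∑ x, D l x * N.toBlocks₁₂ x 0 = _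
    split_ifs with h' <;> simp [h'] at this <;> linear_combination this

theorem layout_cons {n m k r e : ℕ} {hs f : Fin r → K[X]} {h₀ : K[X]} {B : Matrix (Fin (e + 1)) (Fin (e + 1)) K}
    {M : Matrix (Fin m) (Fin m) K} {g : Matrix (Fin n) (Fin n) K} (hk0 : r = 0 → k = 0) (he : 1 ≤ e)
    (hB : Layout (k := e) (r := 1) (fun _ => h₀) (fun _ => B.charpoly) B) (hM : Layout (k := k) hs f M)
    (hsim : Sim (fromBlocks B 0 0 M) g) :
    Layout (k := e + k) (r := r + 1) (Fin.cons h₀ hs) (Fin.cons B.charpoly f) g := by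
  classical
  obtain ⟨Db, Xb, Yb, Zb, Pb, Tb, Wb, Gb, hsb, hinvb, hDb, hDbc, -, -, hGbd, hXb, hTb⟩ := hB
  obtain ⟨D, X, Y, Z, P, T, W, G, hsm, hinv, hD, hDc, hGl, hGs, hGd, hX, -⟩ := hM
  set w : Matrix (Fin r) (Fin e) K := Matrix.of fun i l => if i.val = 0 ∧ l.val + 1 = e then 1 else 0 with hw
  let S : Matrix ((Fin e ⊕ Fin k) ⊕ (Fin 1 ⊕ Fin r)) ((Fin e ⊕ Fin k) ⊕ (Fin 1 ⊕ Fin r)) K :=
    fromBlocks 1 0 (fromBlocks 0 0 w 0) 1
  let S' : Matrix ((Fin e ⊕ Fin k) ⊕ (Fin 1 ⊕ Fin r)) ((Fin e ⊕ Fin k) ⊕ (Fin 1 ⊕ Fin r)) K :=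
    fromBlocks 1 0 (fromBlocks 0 0 (-w) 0) 1
  have hSS : S * S' = 1 := by simp [S, S', fromBlocks_multiply, fromBlocks_one, fromBlocks_add]
  have hS'S : S' * S = 1 := by simp [S, S', fromBlocks_multiply, fromBlocks_one, fromBlocks_add]
  set M0 := fromBlocks (fromBlocks Db 0 0 D) (fromBlocks Xb 0 0 X) (fromBlocks Yb 0 0 Y) (fromBlocks Zb 0 0 Z) with hM0
  set N0 := fromBlocks (fromBlocks Pb 0 0 P) (fromBlocks Tb 0 0 T) (fromBlocks Wb 0 0 W) (fromBlocks Gb 0 0 G) with hN0
  have h0 : M0 * N0 = 1 := by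
    rw [← fromBlocks_one, fromBlocks_multiply] at hinvb hinv
    obtain ⟨a1, a2, a3, a4⟩ := fromBlocks_inj.1 hinvb
    obtain ⟨b1, b2, b3, b4⟩ := fromBlocks_inj.1 hinv
    rw [hM0, hN0]
    simp [fromBlocks_multiply, fromBlocks_add, a1, a2, a3, a4, b1, b2, b3, b4, fromBlocks_one]
  set M1 := S' * M0 * S
  set N1 := S' * N0 * S
  have h1 : M1 * N1 = 1 := by
    calc M1 * N1 = S' * M0 * (S * S') * N0 * S := by simp only [M1, N1, Matrix.mul_assoc]
      _ = S' * (M0 * N0) * S := by rw [hSS]; simp only [Matrix.mul_one, Matrix.mul_assoc]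
      _ = 1 := by rw [h0, Matrix.mul_one, hS'S]
  have hXw : X * w = Matrix.of fun i l => if i.val = 0 ∧ l.val + 1 = e then (1 : K) else 0 := by
    ext i l
    rw [Matrix.mul_apply]
    rcases Nat.eq_zero_or_pos r with hr | hr
    · subst hr
      rw [Finset.univ_eq_empty, Finset.sum_empty, Matrix.of_apply, if_neg]
      rintro ⟨hi, -⟩
      have := hk0 rfl
      exact absurd i.isLt (by omega)
    · rw [Finset.sum_eq_single (⟨0, hr⟩ : Fin r)]
      · simp [hw, hX i ⟨0, hr⟩ rfl, ← ite_and, and_comm]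
      · intro x _ hx
        have : x.val ≠ 0 := fun hh => hx (Fin.ext hh)
        simp [hw, this]
      · exact fun hh => absurd (Finset.mem_univ _) hh
  have e11 : M1.toBlocks₁₁ = fromBlocks Db 0 (X * w) D := by
    simp [M1, S, S', hM0, fromBlocks_multiply, fromBlocks_add]
  have e12 : M1.toBlocks₁₂ = fromBlocks Xb 0 0 X := by simp [M1, S, S', hM0, fromBlocks_multiply]
  have f12 : N1.toBlocks₁₂ = fromBlocks Tb 0 0 T := by simp [N1, S, S', hN0, fromBlocks_multiply]
  have f22 : N1.toBlocks₂₂ = fromBlocks Gb 0 (-(w * Tb)) G := by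
    simp [N1, S, S', hN0, fromBlocks_multiply, fromBlocks_add]
  have hsim1 : Sim M1 g := by
    refine Sim.trans (B := M0) ⟨S, S', hSS, hS'S, ?_⟩ (Sim.trans ?_ hsim)
    · show M0 = S * (S' * M0 * S) * S'
      rw [← Matrix.mul_assoc, ← Matrix.mul_assoc, hSS, Matrix.one_mul, Matrix.mul_assoc, hSS, Matrix.mul_one]
    · refine Sim.trans (LevCover.Sim.of_reindex (Equiv.sumSumSumComm _ _ _ _) ?_) (LevCover.sim_blocks hsb hsm)
      ext ((a | a) | (a | a)) ((c | c) | (c | c)) <;> simp [hM0]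
  let σk : Fin e ⊕ Fin k ≃ Fin (e + k) := finSumFinEquiv
  let σr : Fin 1 ⊕ Fin r ≃ Fin (r + 1) := finSumFinEquiv.trans (finCongr (by omega))
  let Φ := Equiv.sumCongr σk σr
  have hre : ∀ A : Matrix ((Fin e ⊕ Fin k) ⊕ (Fin 1 ⊕ Fin r)) ((Fin e ⊕ Fin k) ⊕ (Fin 1 ⊕ Fin r)) K,
      Matrix.reindex Φ Φ A = fromBlocks (Matrix.reindex σk σk A.toBlocks₁₁) (Matrix.reindex σk σr A.toBlocks₁₂)
        (Matrix.reindex σr σk A.toBlocks₂₁) (Matrix.reindex σr σr A.toBlocks₂₂) := by
    intro A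
    ext (a | a) (c | c) <;> simp [Φ, Matrix.toBlocks₁₁, Matrix.toBlocks₁₂, Matrix.toBlocks₂₁, Matrix.toBlocks₂₂]
  have hkl : ∀ a, (σk (Sum.inl a)).val = a.val := fun a => by simp [σk]
  have hkr : ∀ a, (σk (Sum.inr a)).val = e + a.val := fun a => by simp [σk]
  have hrl : ∀ a : Fin 1, (σr (Sum.inl a)).val = 0 := fun a => by simp [σr]
  have hrr : ∀ a, (σr (Sum.inr a)).val = 1 + a.val := fun a => by simp [σr, Nat.add_comm]
  have hsucc : ∀ a : Fin r, σr (Sum.inr a) = a.succ := fun a => Fin.ext ((hrr a).trans (Nat.add_comm 1 a.val))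
  have hzero : ∀ a : Fin 1, σr (Sum.inl a) = 0 := fun a => Fin.ext (by rw [hrl]; rfl)
  refine ⟨Matrix.reindex σk σk M1.toBlocks₁₁, Matrix.reindex σk σr M1.toBlocks₁₂, Matrix.reindex σr σk M1.toBlocks₂₁,
    Matrix.reindex σr σr M1.toBlocks₂₂, Matrix.reindex σk σk N1.toBlocks₁₁, Matrix.reindex σk σr N1.toBlocks₁₂,
    Matrix.reindex σr σk N1.toBlocks₂₁, Matrix.reindex σr σr N1.toBlocks₂₂, ?_, ?_, ?_, ?_, ?_, ?_, ?_, ?_, ?_⟩
  · rw [← hre M1]
    exact (LevCover.sim_reindex Φ M1).symm.trans hsim1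
  · rw [← hre M1, ← hre N1, Matrix.reindex_apply, Matrix.reindex_apply, submatrix_mul_equiv, h1,
      submatrix_one_equiv]
  · rw [e11, hXw]
    refine ⟨fun a c h => ?_, fun a c h => ?_⟩ <;>
      obtain ⟨a, rfl⟩ := σk.surjective a <;> obtain ⟨c, rfl⟩ := σk.surjective c <;>
      rcases a with a | a <;> rcases c with c | c <;>
      simp only [hkl, hkr] at h <;>
      simp only [Matrix.reindex_apply, Matrix.submatrix_apply, Equiv.symm_apply_apply, fromBlocks_apply₁₁,
        fromBlocks_apply₁₂, fromBlocks_apply₂₁, fromBlocks_apply₂₂, Matrix.zero_apply, Matrix.of_apply]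
    · exact hDb.1 a c h
    · rw [if_neg]; rintro ⟨h1', h2'⟩; omega
    · exact hD.1 a c (by omega)
    · exact hDb.2 a c h
    · exfalso; omega
    · rw [if_pos ⟨by have := a.isLt; omega, by have := c.isLt; omega⟩]; exact one_ne_zero
    · exact hD.2 a c (by omega)
  · rw [Matrix.charpoly_reindex, e11, charpoly_fromBlocks_zero₁₂, hDbc, hDc, Fin.prod_univ_one, Fin.prod_univ_succ]
    simp
  · rw [f22]
    intro a c h
    rw [Fin.lt_def] at h
    obtain ⟨a, rfl⟩ := σr.surjective a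
    obtain ⟨c, rfl⟩ := σr.surjective c
    rcases a with a | a <;> rcases c with c | c <;> simp only [hrl, hrr] at h <;>
      simp only [Matrix.reindex_apply, Matrix.submatrix_apply, Equiv.symm_apply_apply, fromBlocks_apply₁₁,
        fromBlocks_apply₁₂, fromBlocks_apply₂₁, fromBlocks_apply₂₂, Matrix.zero_apply]
    · omega
    · omega
    · exact hGl a c (Fin.lt_def.2 (by omega))
  · rw [f22]
    intro a c h
    obtain ⟨a, rfl⟩ := σr.surjective a
    obtain ⟨c, rfl⟩ := σr.surjective c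
    rcases a with a | a <;> rcases c with c | c <;> simp only [hrl, hrr] at h <;>
      simp only [Matrix.reindex_apply, Matrix.submatrix_apply, Equiv.symm_apply_apply, fromBlocks_apply₁₁,
        fromBlocks_apply₁₂, fromBlocks_apply₂₁, fromBlocks_apply₂₂, Matrix.zero_apply]
    · omega
    · omega
    · rw [Matrix.neg_apply, neg_ne_zero, Matrix.mul_apply, Finset.sum_eq_single (⟨e - 1, by omega⟩ : Fin e)]
      · rw [hw, Matrix.of_apply, if_pos ⟨by omega, by simp only; omega⟩, one_mul]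
        exact hTb rfl _ _ (by simp only; omega)
      · intro x _ hx
        rw [hw, Matrix.of_apply, if_neg, zero_mul]
        rintro ⟨-, h2'⟩
        exact hx (Fin.ext (by simp only; omega))
      · exact fun hh => absurd (Finset.mem_univ _) hh
    · exact hGs a c (by omega)
  · rw [f22]
    intro a
    obtain ⟨a, rfl⟩ := σr.surjective a
    rcases a with a | a
    · simp only [Matrix.reindex_apply, Matrix.submatrix_apply, Equiv.symm_apply_apply, fromBlocks_apply₁₁, hzero,
        Fin.cons_zero]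
      rw [← hzero a]
      simp only [Matrix.submatrix_apply, Equiv.symm_apply_apply, fromBlocks_apply₁₁]
      exact hGbd a
    · rw [hsucc, Fin.cons_succ, Fin.cons_succ, ← hsucc]
      simp only [Matrix.reindex_apply, Matrix.submatrix_apply, Equiv.symm_apply_apply, fromBlocks_apply₂₂]
      exact hGd a
  · rw [e12]
    intro a c h
    obtain ⟨a, rfl⟩ := σk.surjective a
    obtain ⟨c, rfl⟩ := σr.surjective c
    rcases a with a | a <;> rcases c with c | c <;> simp only [hrl, hrr] at h <;>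
      simp only [Matrix.reindex_apply, Matrix.submatrix_apply, Equiv.symm_apply_apply, fromBlocks_apply₁₁,
        fromBlocks_apply₁₂, fromBlocks_apply₂₁, fromBlocks_apply₂₂, Matrix.zero_apply, hkl, hkr]
    · exact hXb a c (by omega)
    · omega
    · rw [if_neg (by omega)]
    · omega
  · rw [f12]
    intro hr a c h
    obtain rfl : r = 0 := by omega
    obtain ⟨a, rfl⟩ := σk.surjective a
    obtain ⟨c, rfl⟩ := σr.surjective c
    rcases c with c | c
    · rcases a with a | a
      · simp only [Matrix.reindex_apply, Matrix.submatrix_apply, Equiv.symm_apply_apply, fromBlocks_apply₁₁]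
        simp only [hkl] at h
        refine hTb rfl a c ?_
        have := a.isLt
        omega
      · simp only [Matrix.reindex_apply, Matrix.submatrix_apply, Equiv.symm_apply_apply, fromBlocks_apply₂₁, Matrix.zero_apply]
        exfalso
        have := hk0 rfl
        exact absurd a.isLt (by omega)
    · exact c.elim0

end CfsgLib.OreGL
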