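import Cfsg.Agent.LevCover.Shapes
import Cfsg.Agent.LevCover.Prods

/-!
# Matrices that are quotients of two conjugate matrices

`Quot p M` says that `M = (M R) R⁻¹` for some `R` with characteristic polynomial `p` similar to `M R`,
whose centraliser has every non-zero determinant.
-/

set_option autoImplicit false
set_option linter.unusedSectionVars false
set_option linter.unusedSimpArgs false

namespace CfsgLib.OreGL

open Matrix Polynomial
open CfsgLib.LevCover (Sim Surj Cyc)

variable {K : Type*} [Field K] {ι κ : Type*} [Fintype ι] [DecidableEq ι] [Fintype κ] [DecidableEq κ]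

/-- `M * R` is similar to `R`, the polynomial of `R` is `p` and the centraliser of `R` has all determinants. -/
def Quot (p : K[X]) (M : Matrix ι ι K) : Prop :=
  ∃ R : Matrix ι ι K, R.charpoly = p ∧ Surj R ∧ Sim R (M * R)

/-- `M * R` is similar to `R` and the polynomial of `R` is `p`. -/
def Pre (p : K[X]) (M : Matrix ι ι K) : Prop :=
  ∃ R : Matrix ι ι K, R.charpoly = p ∧ Sim R (M * R)

theorem Quot.pre {p : K[X]} {M : Matrix ι ι K} (h : Quot p M) : Pre p M :=
  let ⟨R, h1, _, h3⟩ := h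
  ⟨R, h1, h3⟩

theorem pre_one {p : K[X]} {R : Matrix ι ι K} (hR : R.charpoly = p) : Pre p (1 : Matrix ι ι K) :=
  ⟨R, hR, by rw [Matrix.one_mul]; exact Sim.refl R⟩

theorem sim_conj_mul {M R : Matrix ι ι K} {P : Matrix κ ι K} {P' : Matrix ι κ K} (h1 : P * P' = 1)
    (h2 : P' * P = 1) (hsim : Sim R (M * R)) : Sim (P * R * P') (P * M * P' * (P * R * P')) := by
  have hRR : Sim R (P * R * P') := ⟨P, P', h1, h2, rfl⟩
  refine (hRR.symm.trans hsim).trans ⟨P, P', h1, h2, ?_⟩
  calc P * M * P' * (P * R * P') = P * M * (P' * P) * R * P' := by simp only [Matrix.mul_assoc]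
    _ = _ := by rw [h2, Matrix.mul_one, Matrix.mul_assoc P M]

theorem charpoly_sim_conj (σ : ι ≃ κ) {R : Matrix ι ι K} {P : Matrix κ ι K} {P' : Matrix ι κ K} (h2 : P' * P = 1) :
    (P * R * P').charpoly = R.charpoly := by
  have hmn : Fintype.card ι = Fintype.card κ := Fintype.card_congr σ
  have e1 := Matrix.charpoly_mul_comm' (P * R) P'
  rw [← Matrix.mul_assoc P', h2, Matrix.one_mul, hmn] at e1
  exact mul_left_cancel₀ (pow_ne_zero _ X_ne_zero) e1

theorem Pre.of_sim {p : K[X]} {M : Matrix ι ι K} {M' : Matrix κ κ K} (σ : ι ≃ κ) (h : Pre p M)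
    (hs : Sim M M') : Pre p M' := by
  obtain ⟨R, hR, hsim⟩ := h
  obtain ⟨P, P', h1, h2, rfl⟩ := hs
  exact ⟨P * R * P', (charpoly_sim_conj σ h2).trans hR, sim_conj_mul h1 h2 hsim⟩

theorem Pre.inv {p : K[X]} {M N : Matrix ι ι K} (h : Pre p M) (hNM : N * M = 1) : Pre p N := by
  obtain ⟨R, hR, hsim⟩ := h
  refine ⟨M * R, by rw [hsim.charpoly_eq, hR], ?_⟩
  rw [← Matrix.mul_assoc, hNM, Matrix.one_mul]
  exact hsim.symm

/-- Similarity transports `Surj`, also between different index types. -/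
theorem surj_sim {A : Matrix ι ι K} {B : Matrix κ κ K} (σ : ι ≃ κ) (hs : Sim A B) (h : Surj A) : Surj B :=
  LevCover.Surj.of_sim hs h σ

theorem Quot.of_sim {p : K[X]} {M : Matrix ι ι K} {M' : Matrix κ κ K} (σ : ι ≃ κ) (h : Quot p M)
    (hs : Sim M M') : Quot p M' := by
  obtain ⟨R, hR, hSu, hsim⟩ := h
  obtain ⟨P, P', h1, h2, rfl⟩ := hs
  have hRR : Sim R (P * R * P') := ⟨P, P', h1, h2, rfl⟩
  exact ⟨P * R * P', (charpoly_sim_conj σ h2).trans hR, surj_sim σ hRR hSu, sim_conj_mul h1 h2 hsim⟩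

theorem Quot.inv {p : K[X]} {M N : Matrix ι ι K} (h : Quot p M) (hNM : N * M = 1) : Quot p N := by
  obtain ⟨R, hR, hSu, hsim⟩ := h
  refine ⟨M * R, by rw [hsim.charpoly_eq, hR], surj_sim (Equiv.refl ι) hsim hSu, ?_⟩
  rw [← Matrix.mul_assoc, hNM, Matrix.one_mul]
  exact hsim.symm

theorem quot_one {p : K[X]} {R : Matrix ι ι K} (hR : R.charpoly = p) (h : Surj R) :
    Quot p (1 : Matrix ι ι K) :=
  ⟨R, hR, h, by rw [Matrix.one_mul]; exact Sim.refl R⟩

theorem aeval_intertwine (f : K[X]) (A : Matrix ι ι K) (B : Matrix κ κ K) (Z : Matrix ι κ K)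
    (h : A * Z = Z * B) : aeval A f * Z = Z * aeval B f := by
  induction f using Polynomial.induction_on' with
  | add a b ha hb => rw [map_add, map_add, Matrix.add_mul, Matrix.mul_add, ha, hb]
  | monomial j c =>
    have hn : A ^ j * Z = Z * B ^ j := by
      induction j with
      | zero => simp
      | succ j ih => rw [pow_succ, pow_succ, Matrix.mul_assoc, h, ← Matrix.mul_assoc, ih, Matrix.mul_assoc]
    rw [aeval_monomial, aeval_monomial, ← Algebra.smul_def, ← Algebra.smul_def, Matrix.smul_mul, hn,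
      Matrix.mul_smul]

/-- Coprime characteristic polynomials leave no intertwiner. -/
theorem intertwine_zero {A : Matrix ι ι K} {B : Matrix κ κ K} (hco : IsCoprime A.charpoly B.charpoly)
    {Z : Matrix ι κ K} (h : A * Z = Z * B) : Z = 0 := by
  obtain ⟨a, b, hab⟩ := hco
  have h1 : Z = aeval A (a * A.charpoly + b * B.charpoly) * Z := by rw [hab, map_one, Matrix.one_mul]
  rw [map_add, map_mul, Matrix.aeval_self_charpoly, mul_zero, zero_add, map_mul, Matrix.mul_assoc,
    aeval_intertwine B.charpoly A B Z h, Matrix.aeval_self_charpoly, Matrix.mul_zero, Matrix.mul_zero] at h1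
  exact h1

theorem exists_sylvester {A : Matrix ι ι K} {B : Matrix κ κ K} (hco : IsCoprime A.charpoly B.charpoly)
    (Y : Matrix ι κ K) : ∃ Z : Matrix ι κ K, A * Z - Z * B = Y := by
  let φ : Matrix ι κ K →ₗ[K] Matrix ι κ K :=
    { toFun := fun Z => A * Z - Z * B
      map_add' := fun a b => by simp only [Matrix.mul_add, Matrix.add_mul]; abel
      map_smul' := fun c a => by simp [smul_sub] }
  have hinj : Function.Injective φ := (injective_iff_map_eq_zero φ).2 fun Z hZ =>
    intertwine_zero hco (sub_eq_zero.1 hZ)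
  exact LinearMap.injective_iff_surjective.1 hinj Y

/-- A block triangular matrix with coprime diagonal blocks is similar to its block diagonal. -/
theorem sim_diag_lower {A : Matrix ι ι K} {B : Matrix κ κ K} (hco : IsCoprime A.charpoly B.charpoly)
    (Y : Matrix κ ι K) : Sim (fromBlocks A 0 Y B) (fromBlocks A 0 0 B) := by
  obtain ⟨Z, hZ⟩ := exists_sylvester hco.symm Y
  refine ⟨fromBlocks 1 0 Z 1, fromBlocks 1 0 (-Z) 1, by simp [fromBlocks_multiply, fromBlocks_one],
    by simp [fromBlocks_multiply, fromBlocks_one], ?_⟩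
  rw [fromBlocks_multiply, fromBlocks_multiply]
  simp only [Matrix.one_mul, Matrix.mul_one, Matrix.zero_mul, Matrix.mul_zero, add_zero, zero_add]
  congr 1
  rw [← hZ, Matrix.mul_neg]
  abel

theorem sim_diag_upper {A : Matrix ι ι K} {B : Matrix κ κ K} (hco : IsCoprime A.charpoly B.charpoly)
    (X : Matrix ι κ K) : Sim (fromBlocks A X 0 B) (fromBlocks A 0 0 B) := by
  obtain ⟨Z, hZ⟩ := exists_sylvester hco X
  refine ⟨fromBlocks 1 Z 0 1, fromBlocks 1 (-Z) 0 1, by simp [fromBlocks_multiply, fromBlocks_one],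
    by simp [fromBlocks_multiply, fromBlocks_one], ?_⟩
  rw [fromBlocks_multiply, fromBlocks_multiply]
  simp only [Matrix.one_mul, Matrix.mul_one, Matrix.zero_mul, Matrix.mul_zero, add_zero, zero_add]
  congr 1
  rw [← hZ, Matrix.mul_neg]
  abel

/-- Joining two coprime quotients along a block LDU decomposition. -/
theorem Quot.join {p₁ p₂ : K[X]} {D₁ : Matrix ι ι K} {D₂ : Matrix κ κ K} (h₁ : Quot p₁ D₁) (h₂ : Pre p₂ D₂)
    (hco : IsCoprime p₁ p₂) (Y : Matrix κ ι K) (X : Matrix ι κ K) :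
    Quot (p₁ * p₂) (fromBlocks 1 0 Y 1 * fromBlocks D₁ 0 0 D₂ * fromBlocks 1 X 0 1) := by
  obtain ⟨R₁, hR₁, hS₁, hsim₁⟩ := h₁
  obtain ⟨R₂, hR₂, hsim₂⟩ := h₂
  set R := fromBlocks R₁ (-(X * R₂)) 0 R₂ with hR
  have hRd : Sim R (fromBlocks R₁ 0 0 R₂) := sim_diag_upper (by rw [hR₁, hR₂]; exact hco) _
  refine ⟨R, ?_, surj_sim (Equiv.refl _) hRd.symm (LevCover.surj_blocks hS₁), ?_⟩
  · rw [hR, Matrix.charpoly_fromBlocks_zero₂₁, hR₁, hR₂]
  · have he : fromBlocks 1 0 Y 1 * fromBlocks D₁ 0 0 D₂ * fromBlocks 1 X 0 1 * R =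
        fromBlocks (D₁ * R₁) 0 (Y * (D₁ * R₁)) (D₂ * R₂) := by
      simp [hR, fromBlocks_multiply, Matrix.mul_assoc, Matrix.mul_add, Matrix.add_mul, Matrix.mul_neg]
    rw [he]
    refine hRd.trans ((LevCover.sim_blocks hsim₁ hsim₂).trans (sim_diag_lower ?_ _).symm)
    rw [hsim₁.charpoly_eq, hsim₂.charpoly_eq, hR₁, hR₂]
    exact hco

theorem Quot.det_eq {p : K[X]} {M : Matrix ι ι K} (h : Quot p M) :
    ∃ R : Matrix ι ι K, R.charpoly = p ∧ M.det * R.det = R.det := by
  obtain ⟨R, hR, -, hsim⟩ := h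
  exact ⟨R, hR, by rw [← det_mul, hsim.det_eq]⟩

/-- The matrix with one entry. -/
theorem surj_unique [Unique ι] (R : Matrix ι ι K) : Surj R := fun d _ =>
  ⟨d • 1, by rw [det_smul, det_one, mul_one, Fintype.card_unique, pow_one],
    by rw [Matrix.smul_mul, Matrix.one_mul, Matrix.mul_smul, Matrix.mul_one]⟩

end CfsgLib.OreGL
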