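import Cfsg.Agent.OreGL.Good
import Cfsg.Agent.SLCommutator.Basic
import Cfsg.Agent.LevCover.SurjCrit
import Cfsg.Agent.LevCover.Pseudo

/-!
# Regular factorisations, transvections and split characteristic polynomials
-/

set_option autoImplicit false
set_option linter.unusedSectionVars false
set_option linter.unusedSimpArgs false

namespace CfsgLib.OreGL

open Matrix Polynomial
open CfsgLib.LevCover (Sim Surj Cyc)
open CfsgLib.SourourProduct (IsLower IsUpper)

variable {K : Type*} [Field K]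

/-- A regular factorisation and a spectrum in runs. -/
theorem regular_data {n : ℕ} {L U : Matrix (Fin n) (Fin n) K} (hL : IsLower L) (hU : IsUpper U)
    (d : Fin n → K) (hd : ∀ i, d i ≠ 0)
    (hrun : ∀ i j k : Fin n, i < j → j < k → d i = d k → d i = d j) :
    ∃ R : Matrix (Fin n) (Fin n) K, R.charpoly = ∏ i, (X - C (d i)) ∧ Cyc R ∧ Sim R (L * U * R) := by
  obtain ⟨P, hP, hPM, hg⟩ := SLCommutator.exists_similar_pair hL hU d hd hrun
  obtain ⟨hVd, hVl, hVs⟩ := SLCommutator.isUpper_inv hU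
  have hl : ∀ i j : Fin n, j < i → (U⁻¹ * diagonal d) i j = 0 := fun i j h => by
    rw [Matrix.mul_diagonal, hVl i j h, zero_mul]
  have hdd : ∀ i, (U⁻¹ * diagonal d) i i = d i := fun i => by rw [Matrix.mul_diagonal, hVd, one_mul]
  refine ⟨U⁻¹ * diagonal d, ?_, ?_, ?_⟩
  · rw [Matrix.charpoly_of_isUpperTriangular _ (fun i j h => hl i j h)]
    simp only [hdd]
  · refine LevCover.cyc_of_isCyc (SLCommutator.isCyc_upper hl (fun i j h _ => ?_) fun i j k h1 h2 he => ?_)
    · rw [Matrix.mul_diagonal]; exact mul_ne_zero (hVs i j h) (hd j)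
    · rw [hdd, hdd] at he ⊢; exact hrun i j k h1 h2 he
  · have u : IsUnit P.det := isUnit_iff_ne_zero.2 hP
    refine ⟨P⁻¹, P, Matrix.nonsing_inv_mul P u, Matrix.mul_nonsing_inv P u, ?_⟩
    rw [hg, Matrix.mul_assoc, ← hPM, ← Matrix.mul_assoc, Matrix.nonsing_inv_mul P u, Matrix.one_mul]

theorem pre_regular {n : ℕ} {L U : Matrix (Fin n) (Fin n) K} (hL : IsLower L) (hU : IsUpper U)
    (d : Fin n → K) (hd : ∀ i, d i ≠ 0)
    (hrun : ∀ i j k : Fin n, i < j → j < k → d i = d k → d i = d j) :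
    Pre (∏ i, (X - C (d i))) (L * U) :=
  let ⟨R, h1, _, h3⟩ := regular_data hL hU d hd hrun
  ⟨R, h1, h3⟩

theorem quot_regular [Fintype K] {n : ℕ} {L U : Matrix (Fin (n + 1)) (Fin (n + 1)) K} (hL : IsLower L) (hU : IsUpper U)
    (d : Fin (n + 1) → K) (hd : ∀ i, d i ≠ 0)
    (hrun : ∀ i j k : Fin (n + 1), i < j → j < k → d i = d k → d i = d j)
    (hsimple : ∀ j : Fin (n + 1), j.val ≠ 0 → d j ≠ d 0) :
    Quot (∏ i, (X - C (d i))) (L * U) := by
  obtain ⟨R, h1, h2, h3⟩ := regular_data hL hU d hd hrun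
  refine ⟨R, h1, LevCover.surj_simple h2 ⟨d, h1, fun i j hi hj => ?_⟩ n.succ_pos, h3⟩
  rw [show i = 0 from Fin.ext hi]
  exact hsimple j hj

/-- A block unitriangular matrix and any coprime pair. -/
theorem quot_unitri {a b : ℕ} {p₁ p₂ : K[X]} (hco : IsCoprime p₁ p₂) {R₁ : Matrix (Fin a) (Fin a) K}
    (h1 : R₁.charpoly = p₁) (hS : Surj R₁) {R₂ : Matrix (Fin b) (Fin b) K} (h2 : R₂.charpoly = p₂)
    (Y : Matrix (Fin b) (Fin a) K) : Quot (p₁ * p₂) (fromBlocks (1 : Matrix (Fin a) (Fin a) K) 0 Y 1) := by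
  have h := (quot_one h1 hS).join (pre_one h2) hco Y 0
  simpa [fromBlocks_multiply, fromBlocks_one] using h

/-- The identity and the transvections. -/
theorem quot_small {a b n : ℕ} (hn : a + 1 + (b + 1) = n) {p₁ p₂ : K[X]} (hco : IsCoprime p₁ p₂)
    {R₁ : Matrix (Fin (a + 1)) (Fin (a + 1)) K} (h1 : R₁.charpoly = p₁) (hS : Surj R₁)
    {R₂ : Matrix (Fin (b + 1)) (Fin (b + 1)) K} (h2 : R₂.charpoly = p₂) {M : Matrix (Fin n) (Fin n) K}
    (hdet : M.det = 1) (hsm : SourourProduct.Small (M - 1)) : Quot (p₁ * p₂) M := by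
  obtain ⟨k, rfl⟩ : ∃ k, n = k + 2 := ⟨a + b, by omega⟩
  set σ : Fin (a + 1) ⊕ Fin (b + 1) ≃ Fin (k + 2) := finSumFinEquiv.trans (finCongr hn)
  obtain ⟨w, φ, hwφ⟩ := hsm
  have hM : M = 1 + vecMulVec w φ := by rw [← hwφ]; abel
  by_cases h0 : M = 1
  · refine (quot_unitri hco h1 hS h2 0).of_sim σ ?_
    rw [fromBlocks_one, h0]
    refine LevCover.Sim.of_reindex σ ?_
    simp
  have hw : w ≠ 0 := fun h => h0 (by rw [hM, h, zero_vecMulVec, add_zero])
  have hφ : φ ≠ 0 := fun h => h0 (by rw [hM, h, vecMulVec_zero, add_zero])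
  have horth : φ ⬝ᵥ w = 0 := by
    rw [hM, vecMulVec_eq Unit, det_one_add_replicateCol_mul_replicateRow] at hdet
    linear_combination hdet
  set i₀ := σ (Sum.inr 0)
  set j₀ := σ (Sum.inl 0)
  have hne : i₀ ≠ j₀ := fun h => by simpa [i₀, j₀] using σ.injective h
  refine (quot_unitri hco h1 hS h2 (Matrix.single 0 0 1)).of_sim σ ?_
  refine (LevCover.Sim.of_reindex σ (B := 1 + vecMulVec (Pi.single i₀ 1) (Pi.single j₀ 1)) ?_).trans ?_
  · ext i j
    obtain ⟨x, rfl⟩ := σ.surjective i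
    obtain ⟨y, rfl⟩ := σ.surjective j
    rw [Matrix.reindex_apply, Matrix.submatrix_apply, Equiv.symm_apply_apply, Equiv.symm_apply_apply]
    rcases x with x | x <;> rcases y with y | y <;>
      simp [i₀, j₀, Matrix.one_apply, vecMulVec_apply, Pi.single_apply, Matrix.single_apply, eq_comm, ite_and] <;>
      split_ifs <;> simp_all
  · rw [hM]
    refine LevCover.sim_rank_one (fun h => ?_) (fun h => ?_) hw hφ ?_
    · simpa using congrFun h i₀
    · simpa using congrFun h j₀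
    · rw [horth, single_dotProduct, Pi.single_eq_of_ne (Ne.symm hne), mul_zero]

end CfsgLib.OreGL
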