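import Cfsg.Agent.OreGL.Regular

/-!
# A regular factorisation along two blocks
-/

set_option autoImplicit false
set_option linter.unusedSectionVars false
set_option linter.unusedSimpArgs false

namespace CfsgLib.OreGL

open Matrix
open CfsgLib.LevCover (Sim)
open CfsgLib.SourourProduct (IsLower IsUpper)

variable {K : Type*} [Field K]

theorem isUpper_blocks {a b : ℕ} {U : Matrix (Fin (a + b)) (Fin (a + b)) K} (hU : IsUpper U) :
    IsUpper (U.submatrix (Fin.castAdd b) (Fin.castAdd b)) ∧ IsUpper (U.submatrix (Fin.natAdd a) (Fin.natAdd a)) ∧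
      (U.submatrix (Fin.natAdd a) (Fin.castAdd b)) = 0 := by
  refine ⟨⟨fun i => hU.1 _, fun i j h => hU.2.1 _ _ h, fun i j h => hU.2.2 _ _ h⟩,
    ⟨fun i => hU.1 _, fun i j h => hU.2.1 _ _ (by simpa using h), fun i j h => hU.2.2 _ _ (by simp; omega)⟩, ?_⟩
  ext i j
  exact hU.2.1 _ _ (by rw [Fin.lt_def]; simp; omega)

theorem isUpper_isUnit {n : ℕ} {U : Matrix (Fin n) (Fin n) K} (hU : IsUpper U) : IsUnit U.det := by
  rw [det_of_isUpperTriangular (show Matrix.BlockTriangular U id from fun i j h => hU.2.1 i j h),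
    Finset.prod_eq_one fun i _ => hU.1 i]
  exact isUnit_one

theorem split_regular {a b : ℕ} {L U : Matrix (Fin (a + b)) (Fin (a + b)) K} (hL : IsLower L) (hU : IsUpper U) :
    ∃ (L₁ U₁ : Matrix (Fin a) (Fin a) K) (L₂ U₂ : Matrix (Fin b) (Fin b) K) (Y : Matrix (Fin b) (Fin a) K)
      (X : Matrix (Fin a) (Fin b) K), IsLower L₁ ∧ IsUpper U₁ ∧ IsLower L₂ ∧ IsUpper U₂ ∧
      Sim (fromBlocks 1 0 Y 1 * fromBlocks (L₁ * U₁) 0 0 (L₂ * U₂) * fromBlocks 1 X 0 1) (L * U) := by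
  obtain ⟨hU1, hU2, hU0⟩ := isUpper_blocks hU
  obtain ⟨hL1, hL2, hL0⟩ := isUpper_blocks (U := Lᵀ) hL
  set L₁ := L.submatrix (Fin.castAdd b) (Fin.castAdd b)
  set U₁ := U.submatrix (Fin.castAdd b) (Fin.castAdd b)
  set L₂ := L.submatrix (Fin.natAdd a) (Fin.natAdd a)
  set U₂ := U.submatrix (Fin.natAdd a) (Fin.natAdd a)
  set L21 := L.submatrix (Fin.natAdd a) (Fin.castAdd b)
  set U12 := U.submatrix (Fin.castAdd b) (Fin.natAdd a)
  have hL0' : L.submatrix (Fin.castAdd b) (Fin.natAdd a) = 0 := by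
    ext i j; exact congrFun (congrFun hL0 j) i
  have hu1 : IsUnit U₁.det := isUpper_isUnit hU1
  have hl1 : IsUnit L₁.det := by
    rw [← det_transpose]; exact isUpper_isUnit (U := L₁ᵀ) hL1
  refine ⟨L₁, U₁, L₂, U₂, L21 * L₁⁻¹, U₁⁻¹ * U12, hL1, hU1, hL2, hU2, ?_⟩
  refine LevCover.Sim.of_reindex finSumFinEquiv ?_
  have hLb : Matrix.reindex finSumFinEquiv finSumFinEquiv (fromBlocks L₁ 0 L21 L₂) = L := by
    rw [← hL0']
    ext i j
    obtain ⟨x, rfl⟩ := finSumFinEquiv.surjective i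
    obtain ⟨y, rfl⟩ := finSumFinEquiv.surjective j
    rcases x with x | x <;> rcases y with y | y <;> simp [L₁, L₂, L21]
  have hUb : Matrix.reindex finSumFinEquiv finSumFinEquiv (fromBlocks U₁ U12 0 U₂) = U := by
    rw [← hU0]
    ext i j
    obtain ⟨x, rfl⟩ := finSumFinEquiv.surjective i
    obtain ⟨y, rfl⟩ := finSumFinEquiv.surjective j
    rcases x with x | x <;> rcases y with y | y <;> simp [U₁, U₂, U12]
  conv_rhs => rw [← hLb, ← hUb]
  rw [Matrix.reindex_apply, Matrix.reindex_apply, Matrix.reindex_apply, submatrix_mul_equiv]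
  congr 1
  simp only [fromBlocks_multiply, Matrix.one_mul, Matrix.mul_one, Matrix.zero_mul, Matrix.mul_zero, add_zero, zero_add]
  congr 1
  · simp [Matrix.mul_assoc, Matrix.mul_nonsing_inv_cancel_left _ _ hu1]
  · simp [Matrix.mul_assoc, Matrix.nonsing_inv_mul_cancel_left _ _ hl1]
  · simp [Matrix.mul_assoc, Matrix.mul_nonsing_inv_cancel_left _ _ hu1, Matrix.nonsing_inv_mul_cancel_left _ _ hl1]

end CfsgLib.OreGL
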