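import Cfsg.Agent.OreGL.Polys
import Cfsg.Agent.OreGL.Tri
import Cfsg.Agent.LevCover.Ctrl

/-!
# Characteristic polynomials over the field with three elements
-/

set_option autoImplicit false
set_option linter.unusedSectionVars false
set_option linter.unusedSimpArgs false

namespace CfsgLib.OreGL

open Matrix Polynomial
open CfsgLib.LevCover (Sim Surj Cyc)

variable {F : Type*} [Field F] [Fintype F]

/-- An admissible irreducible polynomial of degree at least two, with a root and a realisation. -/
structure Part (E : Type*) [Field E] [Algebra F E] (n : ℕ) (p : F[X]) (x : E) : Prop where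
  monic : p.Monic
  deg : p.natDegree = n
  irr : Irreducible p
  root : aeval x p = 0
  ne : x ≠ 0
  norm : (-1) ^ n * p.eval 0 = -1
  surj : ∃ R : Matrix (Fin n) (Fin n) F, R.charpoly = p ∧ Surj R
  self : IsCoprime p p.reverse

theorem coprime_reverse_of_root {E : Type*} [Field E] [Algebra F E] {p g : F[X]} (hp : Irreducible p) {x : E}
    (hx : aeval x p = 0) (hx0 : x ≠ 0) (hg : aeval x⁻¹ g ≠ 0) : IsCoprime p g.reverse := by
  refine (hp.coprime_iff_not_dvd).2 fun hd => hg ?_
  haveI : Invertible x⁻¹ := invertibleOfNonzero (inv_ne_zero hx0)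
  have h := eval₂_reverse_eq_zero_iff (algebraMap F E) x⁻¹ g
  rw [invOf_eq_inv, inv_inv] at h
  exact h.1 (aeval_eq_zero_of_dvd_aeval_eq_zero hd hx)

theorem coprime_of_root {E : Type*} [Field E] [Algebra F E] {p g : F[X]} (hp : Irreducible p) {x : E}
    (hx : aeval x p = 0) (hg : aeval x g ≠ 0) : IsCoprime p g :=
  (hp.coprime_iff_not_dvd).2 fun hd => hg (aeval_eq_zero_of_dvd_aeval_eq_zero hd hx)

section Ext

variable {p : ℕ} [Fact p.Prime] [CharP F p] {n : ℕ} [NeZero n]

local notation "E" => FiniteField.Extension F p n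

theorem exists_generator :
    ∃ μ : (E)ˣ, orderOf μ = Fintype.card F ^ n - 1 ∧ ∀ y : (E)ˣ, y ∈ Subgroup.zpowers μ := by
  obtain ⟨μ, hμ⟩ := IsCyclic.exists_generator (α := (E)ˣ)
  refine ⟨μ, ?_, hμ⟩
  rw [orderOf_eq_card_of_forall_mem_zpowers hμ, Nat.card_units, FiniteField.natCard_extension, Nat.card_eq_fintype_card]

theorem conj_exponent {x y : E} (h : minpoly F x = minpoly F y) :
    ∃ i < n, y = x ^ (Fintype.card F ^ i) := by
  have h' := h.symm
  rw [Normal.minpoly_eq_iff_mem_orbit] at h'
  obtain ⟨σ, hσ⟩ := h'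
  obtain ⟨i, hi, hie⟩ := FiniteField.Extension.exists_frob_pow_eq F p n σ
  refine ⟨i, hi, ?_⟩
  rw [← hσ, ← hie, ← Nat.card_eq_fintype_card]
  exact FiniteField.Extension.frob_iterate_apply F p n i

/-- Powers of a generator of small exponent prime to the norm. -/
theorem part_of_power (hq : Fintype.card F = 3) {μ : (E)ˣ} (hord : orderOf μ = 3 ^ n - 1)
    (hgen : ∀ y : (E)ˣ, y ∈ Subgroup.zpowers μ) {e : ℕ} (he : Odd e)
    (hdeg : ∀ d, d ∣ n → d < n → ¬ (3 ^ n - 1) ∣ e * (3 ^ d - 1))
    (hinv : ∀ i < n, ¬ (3 ^ n - 1) ∣ e * (3 ^ i + 1)) :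
    Part E n (minpoly F ((μ : E) ^ e)) ((μ : E) ^ e) := by
  haveI : Fintype (E) := Fintype.ofFinite _
  set x : E := (μ : E) ^ e with hx
  have hx0 : x ≠ 0 := pow_ne_zero _ μ.ne_zero
  have hint : IsIntegral F x := IsIntegral.of_finite F _
  have hpow : ∀ k, x ^ k = 1 ↔ (3 ^ n - 1) ∣ e * k := by
    intro k
    rw [hx, ← pow_mul, ← hord, orderOf_dvd_iff_pow_eq_one, ← Units.val_pow_eq_pow_val, Units.val_eq_one]
  set f := minpoly F x
  have hfi : Irreducible f := minpoly.irreducible hint
  have hfin : Module.finrank F (E) = n := FiniteField.finrank_extension F p n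
  have hd : f.natDegree = n := by
    by_contra hne
    have hdvd : f.natDegree ∣ n := hfin ▸ minpoly.degree_dvd hint
    have hle : f.natDegree ≤ n := Nat.le_of_dvd (Nat.pos_of_ne_zero (NeZero.ne n)) hdvd
    refine hdeg _ hdvd (lt_of_le_of_ne hle hne) ((hpow _).1 ?_)
    have h := (Irreducible.natDegree_dvd_iff_dvd_X_pow_card_pow_sub_X hfi).1 (dvd_refl f.natDegree)
    have h' := aeval_eq_zero_of_dvd_aeval_eq_zero h (minpoly.aeval F x)
    rw [map_sub, map_pow, aeval_X, sub_eq_zero, Nat.card_eq_fintype_card, hq] at h'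
    have h1 : 1 ≤ 3 ^ f.natDegree := Nat.one_le_pow _ _ (by norm_num)
    refine mul_right_cancel₀ hx0 ?_
    rw [← pow_succ, one_mul, Nat.sub_add_cancel h1, h']
  let b : Module.Basis (Fin n) F (E) := Module.finBasisOfFinrankEq F (E) hfin
  let L := Algebra.leftMulMatrix b
  have hχ : (L x).charpoly = f := by
    refine eq_of_monic_of_dvd_of_natDegree_le (minpoly.monic hint) (charpoly_monic _) (minpoly.dvd F x ?_) ?_
    · apply Algebra.leftMulMatrix_injective b
      rw [← Polynomial.aeval_algHom_apply, map_zero]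
      exact Matrix.aeval_self_charpoly _
    · rw [charpoly_natDegree_eq_dim, Fintype.card_fin, hd]
  have hN : ∀ d : F, d ≠ 0 → ∃ z : E, Algebra.norm F z = d := fun d _ => FiniteField.norm_surjective F (E) d
  have hnorm : Algebra.norm F x = -1 := by
    have hc : ∀ c : F, c ≠ 0 → c = 1 ∨ c = -1 := fun c hc => by
      have := FiniteField.pow_card_sub_one_eq_one c hc
      rw [hq] at this
      exact sq_eq_one_iff.1 this
    rcases hc _ (Algebra.norm_ne_zero_iff.2 μ.ne_zero) with h | h
    · exfalso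
      obtain ⟨z, hz⟩ := hN (-1) (neg_ne_zero.2 one_ne_zero)
      have hz0 : z ≠ 0 := fun h0 => by
        rw [h0, Algebra.norm_zero] at hz
        exact (neg_ne_zero.2 one_ne_zero) hz.symm
      obtain ⟨k, hk⟩ := hgen (Units.mk0 z hz0)
      have hzk : Units.map (Algebra.norm F (S := E)) (Units.mk0 z hz0) = 1 := by
        rw [← hk, map_zpow, show Units.map (Algebra.norm F (S := E)) μ = 1 from Units.ext h, _root_.one_zpow]
      have h1 := congrArg Units.val hzk
      simp only [Units.coe_map, Units.val_mk0, Units.val_one] at h1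
      rw [hz] at h1
      have h3 : (3 : F) = 0 := by
        have := FiniteField.cast_card_eq_zero F
        rw [hq] at this; exact_mod_cast this
      exact one_ne_zero (α := F) (by linear_combination h3 + h1)
    · rw [hx, map_pow, h, he.neg_one_pow]
  have hdet : (L x).det = -1 := by rw [← hnorm, Algebra.norm_eq_matrix_det b]
  refine ⟨minpoly.monic hint, hd, hfi, minpoly.aeval F x, hx0, ?_, ⟨L x, hχ, fun d hd0 => ?_⟩, ?_⟩
  · rw [Matrix.det_eq_sign_charpoly_coeff, hχ, Fintype.card_fin, coeff_zero_eq_eval_zero] at hdet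
    exact hdet
  · obtain ⟨z, hz⟩ := hN d hd0
    refine ⟨L z, by rw [← hz, Algebra.norm_eq_matrix_det b], ?_⟩
    rw [← map_mul, ← map_mul, mul_comm]
  · refine coprime_reverse_of_root hfi (minpoly.aeval F x) hx0 fun h0 => ?_
    have he' : minpoly F x = minpoly F x⁻¹ :=
      minpoly.eq_of_irreducible_of_monic hfi h0 (minpoly.monic hint)
    obtain ⟨i, hi, hie⟩ := conj_exponent he'
    refine hinv i hi ((hpow _).1 ?_)
    rw [pow_succ, ← hq, ← hie, inv_mul_cancel₀ hx0]

theorem exists_parts (hq : Fintype.card F = 3) (hn : 2 ≤ n) :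
    ∃ (f : F[X]) (x : E), Part E n f x ∧ (∃ j, f.coeff (2 * j + 1) ≠ 0) ∧
      (3 ≤ n → ∃ (g : F[X]) (y : E), Part E n g y ∧ IsCoprime g f ∧ IsCoprime g f.reverse ∧ IsCoprime f g.reverse) := by
  obtain ⟨μ, hord, hgen⟩ := exists_generator (F := F) (p := p) (n := n)
  rw [hq] at hord
  have hb : ∀ d, d < n → 3 * 3 ^ d ≤ 3 ^ n := fun d hd => by
    rw [← pow_succ']; exact Nat.pow_le_pow_right (by norm_num) hd
  have h9 : 9 ≤ 3 ^ n := le_trans (by norm_num) (Nat.pow_le_pow_right (show 1 ≤ 3 by norm_num) hn)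
  have hlt : ∀ {a : ℕ}, 0 < a → a < 3 ^ n - 1 → ¬ (3 ^ n - 1) ∣ a := fun h1 h2 h3 =>
    absurd (Nat.le_of_dvd h1 h3) (by omega)
  have hone : ∀ d, 1 ≤ 3 ^ d := fun d => Nat.one_le_pow _ _ (by norm_num)
  have hμ := part_of_power hq hord hgen (e := 1) odd_one
    (fun d hdn hd => by
      have h1 : 0 < d := Nat.pos_of_ne_zero fun h => by
        rw [h, zero_dvd_iff] at hdn; omega
      have := hb d hd
      have : 3 ^ 1 ≤ 3 ^ d := Nat.pow_le_pow_right (by norm_num) h1
      exact hlt (by omega) (by omega))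
    (fun i hi => by have := hb i hi; have := hone i; exact hlt (by omega) (by omega))
  rw [pow_one] at hμ
  refine ⟨_, _, hμ, ?_, fun hn3 => ?_⟩
  · by_contra hcon
    push Not at hcon
    set f := minpoly F (μ : E)
    have heven : f.comp (-X) = f := by
      ext i
      rw [show f.comp (-X) = f.comp (C (-1) * X) by rw [map_neg, map_one, neg_one_mul], comp_C_mul_X_coeff]
      rcases Nat.even_or_odd i with ⟨j, rfl⟩ | ⟨j, rfl⟩
      · rw [← two_mul, (even_two_mul j).neg_one_pow, mul_one]
      · rw [hcon j, zero_mul]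
    have hroot : aeval (-(μ : E)) f = 0 := by
      rw [← hμ.root, show aeval (μ : E) f = aeval (μ : E) (f.comp (-X)) by rw [heven], aeval_comp, map_neg, aeval_X]
    have he' : minpoly F (μ : E) = minpoly F (-(μ : E)) :=
      minpoly.eq_of_irreducible_of_monic hμ.irr hroot hμ.monic
    obtain ⟨i, hi, hie⟩ := conj_exponent he'
    rw [hq] at hie
    have h2 : μ ^ (2 * (3 ^ i - 1)) = 1 := by
      refine Units.ext ?_
      rw [Units.val_pow_eq_pow_val, Units.val_one, mul_comm, pow_mul]
      have e1 : (μ : E) ^ (3 ^ i - 1) * (μ : E) = -1 * (μ : E) := by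
        rw [← pow_succ, Nat.sub_add_cancel (hone i), ← hie, neg_one_mul]
      rw [mul_right_cancel₀ μ.ne_zero e1, neg_one_sq]
    have h3 := orderOf_dvd_of_pow_eq_one h2
    rw [hord] at h3
    rcases Nat.eq_zero_or_pos i with hi0 | hi0
    · subst hi0
      rw [pow_zero, pow_one] at hie
      have h20 : (2 : E) = 0 := by
        refine (mul_eq_zero.1 (show (2 : E) * (μ : E) = 0 by linear_combination -hie)).resolve_right μ.ne_zero
      have h30 : (3 : E) = 0 := by
        have := congrArg (algebraMap F (E)) (FiniteField.cast_card_eq_zero F)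
        rw [hq, map_natCast, map_zero] at this
        exact_mod_cast this
      exact one_ne_zero (α := E) (by linear_combination h30 - h20)
    · have := hb i hi
      have : 3 ^ 1 ≤ 3 ^ i := Nat.pow_le_pow_right (by norm_num) hi0
      exact hlt (by omega) (by omega) h3
  · have h27 : 27 ≤ 3 ^ n := le_trans (by norm_num) (Nat.pow_le_pow_right (show 1 ≤ 3 by norm_num) hn3)
    have h5 := part_of_power hq hord hgen (e := 5) (by decide)
      (fun d hdn hd => by
        have h1 : 0 < d := Nat.pos_of_ne_zero fun h => by rw [h, zero_dvd_iff] at hdn; omega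
        have hd2 : 2 * d ≤ n := by
          obtain ⟨c, rfl⟩ := hdn
          rcases c with _ | _ | c
          · omega
          · omega
          · nlinarith
        have h3d : 3 ^ 1 ≤ 3 ^ d := Nat.pow_le_pow_right (by norm_num) h1
        refine hlt (by omega) ?_
        rcases Nat.lt_or_ge d 2 with hd1 | hd1
        · obtain rfl : d = 1 := by omega
          norm_num; omega
        · have h4 : 3 ^ 2 ≤ 3 ^ d := Nat.pow_le_pow_right (by norm_num) hd1
          have h5 : 3 ^ d * 3 ^ d ≤ 3 ^ n := by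
            rw [← pow_add]; exact Nat.pow_le_pow_right (by norm_num) (by omega)
          have h6 : 9 * 3 ^ d ≤ 3 ^ d * 3 ^ d := Nat.mul_le_mul_right _ h4
          omega)
      (fun i hi => by
        intro hdvd
        have h1 := hb i hi
        have hdvd' : (3 ^ n - 1) ∣ 5 * (3 ^ i + 1) := hdvd
        obtain ⟨c, hc⟩ := hdvd'
        have h8 : (3 ^ n) % 3 = 0 := by
          obtain ⟨k, rfl⟩ : ∃ k, n = k + 1 := ⟨n - 1, by omega⟩
          rw [pow_succ]; omega
        rcases c with _ | _ | c
        · omega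
        · rcases Nat.eq_zero_or_pos i with hi0 | hi0
          · subst hi0; omega
          · rcases Nat.lt_or_ge i 2 with hi1 | hi1
            · obtain rfl : i = 1 := by omega
              omega
            · obtain ⟨k, rfl⟩ : ∃ k, i = k + 2 := ⟨i - 2, by omega⟩
              obtain ⟨l, rfl⟩ : ∃ l, n = l + 2 := ⟨n - 2, by omega⟩
              rw [pow_add, pow_add] at hc
              norm_num at hc
              omega
        · have hc2 : (3 ^ n - 1) * 2 ≤ (3 ^ n - 1) * (c + 1 + 1) := Nat.mul_le_mul_left _ (by omega)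
          omega)
    refine ⟨_, _, h5, ?_, ?_, ?_⟩
    · refine coprime_of_root h5.irr h5.root fun h0 => ?_
      obtain ⟨i, hi, hie⟩ := conj_exponent (minpoly.eq_of_irreducible_of_monic hμ.irr h0 hμ.monic)
      rw [hq, ← Units.val_pow_eq_pow_val, ← Units.val_pow_eq_pow_val, Units.val_inj, pow_inj_mod, hord] at hie
      have := hb i hi
      have := hone i
      rw [Nat.mod_eq_of_lt (by omega), Nat.mod_eq_of_lt (by omega)] at hie
      rcases Nat.eq_zero_or_pos i with hi0 | hi0
      · subst hi0; omega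
      · obtain ⟨k, rfl⟩ : ∃ k, i = k + 1 := ⟨i - 1, by omega⟩
        rw [pow_succ] at hie; omega
    · refine coprime_reverse_of_root h5.irr h5.root h5.ne fun h0 => ?_
      obtain ⟨i, hi, hie⟩ := conj_exponent (minpoly.eq_of_irreducible_of_monic hμ.irr h0 hμ.monic)
      rw [hq] at hie
      have h2 : μ ^ (3 ^ i + 5) = 1 := Units.ext (by
        rw [Units.val_pow_eq_pow_val, pow_add, ← hie, inv_mul_cancel₀ (pow_ne_zero _ μ.ne_zero), Units.val_one])
      have h3 := orderOf_dvd_of_pow_eq_one h2
      rw [hord] at h3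
      have := hb i hi
      exact hlt (by omega) (by omega) h3
    · refine coprime_reverse_of_root hμ.irr hμ.root hμ.ne fun h0 => ?_
      have he' : minpoly F ((μ : E) ^ 5) = minpoly F ((μ : E)⁻¹) :=
        minpoly.eq_of_irreducible_of_monic h5.irr h0 h5.monic
      obtain ⟨i, hi, hie⟩ := conj_exponent he'
      rw [hq, ← pow_mul] at hie
      have h2 : μ ^ (5 * 3 ^ i + 1) = 1 := Units.ext (by
        rw [Units.val_pow_eq_pow_val, pow_succ, ← hie, inv_mul_cancel₀ μ.ne_zero, Units.val_one])
      have h3 := orderOf_dvd_of_pow_eq_one h2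
      rw [hord] at h3
      have h1 := hb i hi
      obtain ⟨c, hc⟩ := h3
      rcases c with _ | _ | c
      · omega
      · rcases Nat.eq_zero_or_pos i with hi0 | hi0
        · subst hi0; omega
        · obtain ⟨k, rfl⟩ : ∃ k, i = k + 1 := ⟨i - 1, by omega⟩
          obtain ⟨l, rfl⟩ : ∃ l, n = l + 1 := ⟨n - 1, by omega⟩
          rw [pow_succ, pow_succ] at hc
          omega
      · have := hone i
        have hc2 : (3 ^ n - 1) * 2 ≤ (3 ^ n - 1) * (c + 1 + 1) := Nat.mul_le_mul_left _ (by omega)
        omega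

end Ext

end CfsgLib.OreGL
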