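import Cfsg.Agent.OreGL.ThreeValues
import Cfsg.Agent.OreGL.Four
import Cfsg.Agent.OreGL.Pairs

/-!
# The exceptional shapes over three elements
-/

set_option autoImplicit false
set_option linter.unusedSectionVars false
set_option linter.unusedSimpArgs false

namespace CfsgLib.OreGL

open Matrix Polynomial
open CfsgLib.LevCover (Sim Hess Cyc)

variable {K : Type*} [Field K] [Fintype K]

theorem exists_cast_three (hq : Fintype.card K = 3) [CharP K 3] (x : K) :
    ∃ c : ZMod 3, ZMod.castHom (dvd_refl 3) K c = x := by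
  by_cases hx : x = 0
  · exact ⟨0, by rw [hx, map_zero]⟩
  rcases unit_three hq hx with rfl | rfl
  · exact ⟨1, map_one _⟩
  · exact ⟨-1, by rw [map_neg, map_one]⟩

theorem charP_three (hq : Fintype.card K = 3) : CharP K 3 := by
  haveI : Fact (Nat.Prime 3) := ⟨Nat.prime_three⟩
  exact charP_of_card_eq_prime hq

theorem goodPoly_four_data (h3 : (3 : K) = 0) : GoodPoly (polyFour K) ∧ IsSquare ((-1 : K) ^ 4 * (polyFour K).eval 0) :=
  ⟨goodPoly_four h3, ⟨1, by norm_num [polyFour]⟩⟩

/-- A cyclic cubic and a scalar. -/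
theorem factors_cubic (hq : Fintype.card K = 3) {M : Matrix (Fin 4) (Fin 4) K} {A : Matrix (Fin 3) (Fin 3) K} {c : K}
    (hA : Cyc A) (hc : A.charpoly.eval c = 0) (hdet : A.det * c = 1)
    (hs : Sim (fromBlocks A 0 0 (c • (1 : Matrix (Fin 1) (Fin 1) K))) M) : Factors M := by
  haveI := charP_three hq
  have h2 := two_ne_three hq
  have h3 : (3 : K) = 0 := by exact_mod_cast CharP.cast_eq_zero K 3
  set f := A.charpoly with hf
  have hm : f.Monic := charpoly_monic A
  have hd : f.natDegree = 3 := by rw [hf, charpoly_natDegree_eq_dim, Fintype.card_fin]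
  have hc0 : c ≠ 0 := right_ne_zero_of_mul_eq_one hdet
  have h33 : f.coeff 3 = 1 := hd ▸ hm.coeff_natDegree
  have hcc := mul_self_three hq hc0
  have he0 : f.coeff 0 = -c := by
    rw [Matrix.det_eq_sign_charpoly_coeff, Fintype.card_fin, ← hf] at hdet
    linear_combination -c * hdet - (f.coeff 0) * hcc
  have he1 : f.coeff 1 = -(f.coeff 2 * c) := by
    rw [eval_eq_sum_range, hd] at hc
    simp only [Finset.sum_range_succ, Finset.sum_range_zero, pow_zero, pow_one, h33, he0] at hc
    linear_combination c * hc - (f.coeff 1 + f.coeff 2 * c + c * c) * hcc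
  obtain ⟨c', hc'⟩ := exists_cast_three hq c
  obtain ⟨b', hb'⟩ := exists_cast_three hq (f.coeff 2 + c)
  have hc'0 : c' ≠ 0 := fun h => hc0 (by rw [← hc', h, map_zero])
  obtain ⟨hχ, hcyc⟩ := charpoly_comp_of_monic (n := 2) hm hd
  have hsA : Sim (SLCommutator.comp f 3) A := LevCover.sim_of_cyc hcyc hA hχ
  refine Factors.of_sim (Equiv.refl _) h2 (quot_cubicFour (K := K) (b := b') hc'0) (goodPoly_four h3)
    (goodPoly_four_data h3).2 (Sim.trans ?_ ((LevCover.sim_blocks hsA (Sim.refl _)).trans hs))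
  rw [ZMod.castHom_apply] at hc' hb'
  refine LevCover.Sim.of_reindex finSumFinEquiv.symm ?_
  ext (i | i) (j | j) <;> fin_cases i <;> fin_cases j <;>
    simp [cubicFour, SLCommutator.comp, finSumFinEquiv, hc', hb', he0, he1]
  all_goals first | linear_combination hcc | ring1

/-- Two equal cyclic quadratics. -/
theorem factors_quads (hq : Fintype.card K = 3) {M : Matrix (Fin 4) (Fin 4) K} {A B : Matrix (Fin 2) (Fin 2) K}
    (hA : Cyc A) (hB : Cyc B) (he : A.charpoly = B.charpoly) (hA0 : A.det ≠ 0)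
    (hs : Sim (fromBlocks A 0 0 B) M) : Factors M := by
  haveI := charP_three hq
  have h2 := two_ne_three hq
  have h3 : (3 : K) = 0 := by exact_mod_cast CharP.cast_eq_zero K 3
  set f := A.charpoly with hf
  have hm : f.Monic := charpoly_monic A
  have hd : f.natDegree = 2 := by rw [hf, charpoly_natDegree_eq_dim, Fintype.card_fin]
  obtain ⟨b', hb'⟩ := exists_cast_three hq (f.coeff 1)
  obtain ⟨d', hd'⟩ := exists_cast_three hq (f.coeff 0)
  have hd'0 : d' ≠ 0 := fun h => hA0 (by
    rw [Matrix.det_eq_sign_charpoly_coeff, ← hf, ← hd', h, map_zero, mul_zero])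
  obtain ⟨hχ, hcyc⟩ := charpoly_comp_of_monic (n := 1) hm hd
  have hsA : Sim (SLCommutator.comp f 2) A := LevCover.sim_of_cyc hcyc hA hχ
  have hsB : Sim (SLCommutator.comp f 2) B := LevCover.sim_of_cyc hcyc hB (hχ.trans he)
  refine Factors.of_sim (Equiv.refl _) h2 (quot_quadFour (K := K) (b := b') hd'0) (goodPoly_four h3)
    (goodPoly_four_data h3).2 (Sim.trans ?_ ((LevCover.sim_blocks hsA hsB).trans hs))
  rw [ZMod.castHom_apply] at hd' hb'
  refine LevCover.Sim.of_reindex (finSumFinEquiv (m := 2) (n := 2)).symm ?_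
  ext (i | i) (j | j) <;> fin_cases i <;> fin_cases j <;>
    simp [quadFour, SLCommutator.comp, finSumFinEquiv, hd', hb']

/-- A cyclic matrix with the two eigenvalues `1`, `-1` is diagonalisable. -/
theorem sim_signs (h2 : (2 : K) ≠ 0) {A : Matrix (Fin 2) (Fin 2) K} (hA : Cyc A)
    (hχ : A.charpoly = (X - C 1) * (X - C (-1))) :
    Sim (fromBlocks ((1 : K) • (1 : Matrix (Fin 1) (Fin 1) K)) 0 0 ((-1 : K) • (1 : Matrix (Fin 1) (Fin 1) K))) A := by
  set L : Matrix (Fin 2) (Fin 2) K := !![1, 0; 1, -1] with hL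
  have hl : ∀ i j : Fin 2, i < j → L i j = 0 := by intro i j h; fin_cases i <;> fin_cases j <;> simp [hL] at h ⊢
  have hc : Cyc L := cyc_lower hl
    (by intro i j h; fin_cases i <;> fin_cases j <;> simp [hL] at h ⊢)
    (fun i j k hij hjk _ => by rw [Fin.lt_def] at hij hjk; omega)
  have hLχ : L.charpoly = A.charpoly := by rw [charpoly_lower hl, hχ, Fin.prod_univ_two]; simp [hL]
  refine Sim.trans ?_ (LevCover.sim_of_cyc hc hA hLχ)
  have e : Matrix.reindex (finSumFinEquiv (m := 1) (n := 1)).symm (finSumFinEquiv (m := 1) (n := 1)).symm L =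
      fromBlocks ((1 : K) • (1 : Matrix (Fin 1) (Fin 1) K)) 0 1 ((-1 : K) • (1 : Matrix (Fin 1) (Fin 1) K)) := by
    ext (i | i) (j | j) <;> fin_cases i <;> fin_cases j <;> simp [hL, finSumFinEquiv]
  have hco : IsCoprime ((1 : K) • (1 : Matrix (Fin 1) (Fin 1) K)).charpoly
      ((-1 : K) • (1 : Matrix (Fin 1) (Fin 1) K)).charpoly := by
    rw [Matrix.smul_one_eq_diagonal, Matrix.smul_one_eq_diagonal, charpoly_diagonal, charpoly_diagonal,
      Fin.prod_univ_one, Fin.prod_univ_one]
    exact isCoprime_X_sub_C_of_isUnit_sub (isUnit_iff_ne_zero.2 fun h => h2 (by linear_combination h))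
  refine ((LevCover.Sim.of_reindex _ e).trans ?_).symm
  exact sim_diag_lower hco 1

/-- Two equal quadratics with distinct roots above the scalar one. -/
theorem factors_signs (hq : Fintype.card K = 3) {a m : ℕ} (ha : 1 ≤ a) {M : Matrix (Fin m) (Fin m) K}
    (hm : 2 + 2 + a = m) {A B : Matrix (Fin 2) (Fin 2) K} (hA : Cyc A) (hB : Cyc B)
    (hAχ : A.charpoly = (X - C 1) * (X - C (-1))) (hBχ : B.charpoly = (X - C 1) * (X - C (-1)))
    (hs : Sim (fromBlocks (fromBlocks A 0 0 B) 0 0 ((1 : K) • (1 : Matrix (Fin a) (Fin a) K))) M) : Factors M := by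
  have h2 := two_ne_three hq
  obtain ⟨p₁, p₂, hp⟩ := exists_pair (K := K) hq (k := a + 1) (s := 2 + (0 + 1)) (by omega) (by omega) (by omega)
  have hD1 : Quot p₁ ((1 : K) • (1 : Matrix (Fin (a + 1)) (Fin (a + 1)) K)) := by
    rw [one_smul]
    exact hp.quot _ (pre_one_of_monic hp.m1 hp.d1)
  have hD2 : Pre p₂ (fromBlocks ((-1 : K) • (1 : Matrix (Fin 2) (Fin 2) K)) 0 0
      ((1 : K) • (1 : Matrix (Fin (0 + 1)) (Fin (0 + 1)) K))) := by
    refine pre_scalar_block (by omega) hp.m2 hp.d2 hp.n2 (neg_ne_zero.2 one_ne_zero) one_ne_zero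
      (fun h => h2 (by linear_combination -h)) (by norm_num)
      (cyc_lower (fun i j h => ?_) (fun i j h => ?_) (fun i j k h _ _ => ?_)) ?_
    · have := Fin.lt_def.1 h; omega
    · omega
    · have := Fin.lt_def.1 h; omega
    · rw [Matrix.smul_one_eq_diagonal, charpoly_diagonal]; simp
  have h := hD1.join hD2 hp.cop 0 0
  simp only [fromBlocks_one, Matrix.one_mul, Matrix.mul_one] at h
  have hsq : IsSquare ((-1 : K) ^ Fintype.card (Fin (a + 1) ⊕ (Fin 2 ⊕ Fin (0 + 1))) * (p₁ * p₂).eval 0) := by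
    rw [Fintype.card_sum, Fintype.card_sum, Fintype.card_fin, Fintype.card_fin, Fintype.card_fin]
    exact ⟨1, by rw [hp.sq, one_mul]⟩
  refine Factors.of_sim ((Equiv.sumCongr (Equiv.refl _) finSumFinEquiv).trans (finSumFinEquiv.trans
    (finCongr (by omega)))) h2 h hp.good hsq (Sim.trans ?_ hs)
  set P : Matrix (Fin 1) (Fin 1) K := (1 : K) • 1
  set N : Matrix (Fin 1) (Fin 1) K := (-1 : K) • 1
  have sA : Sim (fromBlocks P 0 0 N) A := sim_signs h2 hA hAχ
  have sB : Sim (fromBlocks P 0 0 N) B := sim_signs h2 hB hBχ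
  refine Sim.trans ?_ (LevCover.sim_blocks (LevCover.sim_blocks sA sB) (Sim.refl _))
  refine Sim.trans ?_ (LevCover.sim_comm _ _)
  -- the four signs
  have s4 : Sim (fromBlocks P 0 0 (fromBlocks (fromBlocks N 0 0 N) 0 0 P)) (fromBlocks (fromBlocks P 0 0 N) 0 0 (fromBlocks P 0 0 N)) :=
    ((LevCover.sim_blocks (Sim.refl _) ((LevCover.sim_assoc N N P).trans
      (LevCover.sim_blocks (Sim.refl _) (LevCover.sim_comm N P))))).trans (LevCover.sim_assoc _ _ _).symm
  refine Sim.trans ?_ (LevCover.sim_blocks (Sim.refl _) s4)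
  refine Sim.trans ?_ (LevCover.sim_assoc _ _ _)
  refine LevCover.sim_blocks ?_ (LevCover.sim_blocks ?_ (Sim.refl _))
  · rw [LevCover.blocks_smul_one]
    exact LevCover.sim_smul_one _ finSumFinEquiv.symm
  · rw [LevCover.blocks_smul_one]
    exact LevCover.sim_smul_one _ (finSumFinEquiv (m := 1) (n := 1)).symm

end CfsgLib.OreGL
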