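import Cfsg.Agent.OreGL.Halves

/-!
# The diagonal of the complement over three elements
-/

set_option autoImplicit false
set_option linter.unusedSectionVars false
set_option linter.unusedSimpArgs false

namespace CfsgLib.OreGL

open Matrix Polynomial
open CfsgLib.LevCover (Sim Hess Cyc)

variable {K : Type*} [Field K] [Fintype K]

theorem unit_three (hq : Fintype.card K = 3) {x : K} (hx : x ≠ 0) : x = 1 ∨ x = -1 := by
  have h := FiniteField.pow_card_sub_one_eq_one x hx
  rw [hq] at h
  exact mul_self_eq_one_iff.1 (by linear_combination h)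

theorem mul_self_three (hq : Fintype.card K = 3) {x : K} (hx : x ≠ 0) : x * x = 1 := by
  rcases unit_three hq hx with rfl | rfl <;> ring

theorem eq_neg_of_ne_three (hq : Fintype.card K = 3) {x y : K} (hx : x ≠ 0) (hy : y ≠ 0) (h : x ≠ y) :
    x = -y := by
  rcases unit_three hq hx with rfl | rfl <;> rcases unit_three hq hy with rfl | rfl <;> simp at h ⊢

theorem two_ne_three (hq : Fintype.card K = 3) : (2 : K) ≠ 0 := fun h => by
  have : (3 : K) = 0 := by
    have := FiniteField.cast_card_eq_zero K
    rw [hq] at this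
    exact_mod_cast this
  exact one_ne_zero (α := K) (by linear_combination this - h)

/-- The complement can be prepared after a coupling with the scalar part. -/
def Done (p₂ : K[X]) (ν : K) {k r a : ℕ} (G : Matrix (Fin r) (Fin r) K) (T : Matrix (Fin k) (Fin r) K) : Prop :=
  ∃ w : Matrix (Fin a) (Fin k) K, Pre p₂ (fromBlocks G 0 (-(w * T)) (ν • (1 : Matrix (Fin a) (Fin a) K)))

theorem done_of_pre {p₂ : K[X]} {ν : K} {k r a : ℕ} {G : Matrix (Fin r) (Fin r) K} {T : Matrix (Fin k) (Fin r) K}
    (h : Pre p₂ (fromBlocks G 0 0 (ν • (1 : Matrix (Fin a) (Fin a) K)))) : Done (a := a) p₂ ν G T :=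
  ⟨0, by simpa using h⟩

theorem done_no_scalar {p₂ : K[X]} {ν : K} {k r : ℕ} {G : Matrix (Fin r) (Fin r) K} {T : Matrix (Fin k) (Fin r) K}
    (h : Pre p₂ (fromBlocks G 0 (0 : Matrix (Fin 0) (Fin r) K) (1 : Matrix (Fin 0) (Fin 0) K))) :
    Done (a := 0) p₂ ν G T := by
  refine done_of_pre ?_
  rwa [Subsingleton.elim (ν • (1 : Matrix (Fin 0) (Fin 0) K)) 1]

theorem exists_values (hq : Fintype.card K = 3) {r : ℕ} (hr : 1 ≤ r) (a : ℕ) {ν : K} (hν : ν ≠ 0) {p₂ : K[X]}
    (hp : p₂.Monic) (hd : p₂.natDegree = r + a) (hp0 : p₂.eval 0 ≠ 0)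
    (hodd : 2 ≤ r + a → ∃ j, p₂.coeff (2 * j + 1) ≠ 0) :
    ∃ v : Fin r → K, (∀ i, v i ≠ 0) ∧ ∏ i, v i = ν ^ a ∧
      ∀ (k : ℕ) (G : Matrix (Fin r) (Fin r) K) (T : Matrix (Fin k) (Fin r) K), 1 ≤ k →
        (∀ i j : Fin r, i < j → G i j = 0) → (∀ i j : Fin r, i.val = j.val + 1 → G i j ≠ 0) →
        (∀ i, G i i = v i) → (r = 1 → ∀ (i : Fin k) (j : Fin r), i.val + 1 = k → T i j ≠ 0) →
        Done (a := a) p₂ ν G T := by
  have h2 : (2 : K) ≠ 0 := two_ne_three hq
  have hneg : -ν ≠ 0 := neg_ne_zero.2 hν
  have hne : ν ≠ -ν := fun h => mul_ne_zero h2 hν (by linear_combination h)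
  rcases Nat.eq_zero_or_pos a with rfl | ha
  · -- no scalar part
    by_cases hr2 : r = 2
    · subst hr2
      refine ⟨fun _ => -1, fun _ => neg_ne_zero.2 one_ne_zero, by simp, fun k G T _ hl hs hv _ => ?_⟩
      obtain ⟨j, hj⟩ := hodd le_rfl
      have hj2 : 2 * j + 1 ≤ 2 + 0 := hd ▸ le_natDegree_of_ne_zero hj
      obtain rfl : j = 0 := by omega
      exact done_no_scalar (pre_complement h2 hl hs hv (by norm_num) hp (by omega) hp0
        (Or.inr (Or.inr ⟨rfl, fun h => h2 (by linear_combination -h), by simpa using hj⟩)))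
    · refine ⟨fun _ => 1, fun _ => one_ne_zero, by simp, fun k G T _ hl hs hv _ => ?_⟩
      exact done_no_scalar (pre_complement h2 hl hs hv (one_pow r) hp (by omega) hp0 (by omega))
  by_cases hr1 : r = 1
  · subst hr1
    refine ⟨fun _ => ν ^ a, fun _ => pow_ne_zero _ hν, by simp, fun k G T hk hl hs hv hT => ?_⟩
    by_cases he : ν ^ a = ν
    · rcases unit_three hq hν with rfl | rfl
      · -- the identity
        refine done_of_pre ?_
        have hG : G = 1 := by
          ext i j
          obtain rfl := Subsingleton.elim i j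
          simpa [he] using hv i
        rw [hG, one_smul, fromBlocks_one]
        obtain ⟨n, hn⟩ : ∃ n, 1 + a = n + 1 := ⟨a, by omega⟩
        refine (pre_one_of_monic (n := n) hp (by omega)).of_sim ((finSumFinEquiv.trans (finCongr hn)).symm) ?_
        refine LevCover.Sim.of_reindex ((finSumFinEquiv.trans (finCongr hn)).symm) ?_
        simp only [Matrix.reindex_apply]
        exact Matrix.submatrix_one_equiv _
      · -- minus a transvection
        have hodd' : Odd a := by
          rcases Nat.even_or_odd a with h | h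
          · rw [h.neg_one_pow] at he
            exact absurd (show (2 : K) = 0 by linear_combination he) h2
          · exact h
        obtain ⟨b, hb⟩ := hodd'
        let last : Fin k := ⟨k - 1, by omega⟩
        let w : Matrix (Fin a) (Fin k) K := fun i l => if i.val = 0 ∧ l = last then 1 else 0
        refine ⟨w, ?_⟩
        set τ := T last 0
        have hτ : τ ≠ 0 := hT rfl last 0 (by simp [last]; omega)
        have hwT : ∀ i j, (w * T) i j = if i.val = 0 then τ else 0 := fun i j => by
          obtain rfl : j = 0 := Subsingleton.elim _ _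
          rw [Matrix.mul_apply, Finset.sum_eq_single last (fun l _ hl => by simp [w, hl]) (by simp)]
          by_cases hi : i.val = 0 <;> simp [w, hi, τ]
        let u : Fin 1 ⊕ Fin a → K := Sum.elim (fun _ => 0) fun i => if i.val = 0 then τ else 0
        let φ : Fin 1 ⊕ Fin a → K := Sum.elim (fun _ => 1) fun _ => 0
        have h := pre_pseudo_index (k := 2 * b) (finSumFinEquiv.trans (finCongr (by omega))) h2 (even_two_mul b) hp
          (by omega) hp0 (hodd (by omega)) (w := u) (φ := φ)
          (fun h => hτ (by simpa [u] using congrFun h (Sum.inr ⟨0, ha⟩)))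
          (fun h => by simpa [φ] using congrFun h (Sum.inl 0))
          (by simp [u, φ, dotProduct, Fintype.sum_sum_type])
        convert h using 1
        ext (i | i) (j | j)
        · obtain rfl := Subsingleton.elim i j
          have := hv i
          rw [he] at this
          simp [this, u, vecMulVec_apply]
        · simp [u, φ, vecMulVec_apply]
        · by_cases hi : i.val = 0 <;> simp [hwT, u, φ, vecMulVec_apply, hi]
        · by_cases hij : i = j <;> simp [u, φ, Matrix.one_apply, vecMulVec_apply, hij]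
    · refine ⟨0, ?_⟩
      rw [Matrix.zero_mul, neg_zero]
      exact pre_avoid le_rfl ha hl hs hν (pow_ne_zero _ hν) (Ne.symm he) hv
        (by rw [pow_one]; exact mul_self_three hq (pow_ne_zero _ hν)) hp hd hp0
  by_cases he : ν ^ a * (-ν) ^ r = 1
  · refine ⟨fun _ => -ν, fun _ => hneg, ?_, fun k G T _ hl hs hv _ => done_of_pre
      (pre_avoid hr ha hl hs hν hneg hne hv he hp hd hp0)⟩
    rw [Finset.prod_const, Finset.card_univ, Fintype.card_fin]
    linear_combination (ν ^ a) * he - ((-ν) ^ r) * mul_self_three hq (pow_ne_zero a hν)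
  · have he' : ν ^ (a + 1) * (-ν) ^ (r - 1) = 1 := by
      have e : ν ^ a * (-ν) ^ r = -1 := by
        rcases unit_three hq (mul_ne_zero (pow_ne_zero a hν) (pow_ne_zero r hneg)) with h | h
        · exact absurd h he
        · exact h
      obtain ⟨r', rfl⟩ : ∃ r', r = r' + 1 := ⟨r - 1, by omega⟩
      rw [Nat.add_sub_cancel, pow_succ]
      rw [pow_succ] at e
      linear_combination -e
    obtain ⟨r', rfl⟩ : ∃ r', r = r' + 1 := ⟨r - 1, by omega⟩
    refine ⟨Fin.cons ν fun _ => -ν, fun i => ?_, ?_, fun k G T _ hl hs hv _ => done_of_pre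
      (pre_merge (by omega) hl hs hν hneg hne (fun i hi => ?_) (fun i hi => ?_) he' hp hd hp0)⟩
    · refine Fin.cases ?_ (fun i => ?_) i
      · simpa using hν
      · simpa using hν
    · rw [Fin.prod_univ_succ, Fin.cons_zero]
      simp only [Fin.cons_succ, Finset.prod_const, Finset.card_univ, Fintype.card_fin]
      rw [Nat.add_sub_cancel, pow_succ] at he'
      linear_combination (ν ^ a) * he' - (ν * (-ν) ^ r') * mul_self_three hq (pow_ne_zero a hν)
    · rw [hv, show i = 0 from Fin.ext hi, Fin.cons_zero]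
    · obtain ⟨i', rfl⟩ := Fin.exists_succ_eq.2 (show i ≠ 0 from fun h => hi (by rw [h]; rfl))
      rw [hv, Fin.cons_succ]

end CfsgLib.OreGL
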